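import Cfsg.Agent.Lib.TCX.G25.C0
import Cfsg.Agent.Lib.TCX.Cert

set_option autoImplicit false
set_option maxRecDepth 100000
set_option Elab.async false

namespace Cfsg.Agent.TCX.G25

open Cfsg.Agent.CG

/-- The relators used. -/
noncomputable def R : List (List ℕ) := [[1,0],
  [3,2],
  [5,4],
  [7,6],
  [10,9],
  [12,11],
  [14,13],
  [16,15],
  [7,0,6,1,1,1],
  [3,7,2,6],
  [6,6,1,1,1,1],
  [8,8],
  [9,1,5,0],
  [0,1],
  [8,2,8,13,13,11,5],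
  [8,4,8,4,3,12,3],
  [8,15,8,13,5,11,5],
  [8,13,8,14,11,3,3],
  [15,15,1,16,0],
  [3,15,2,16],
  [6,15,6,16,6,15,1,1],
  [9,10],
  [15,16],
  [2,3],
  [15,10,5,9,4],
  [11,12],
  [16,12,15,11],
  [5,16,4,15],
  [12,14,11,13,15],
  [15,15,15,15,15],
  [1,15,0,16,16],
  [0,2,2,0,3,0,4,15,14,8,1,1,8],
  [6,7],
  [0,0,0,0,7,7],
  [1,11,0,14,5,11,11],
  [13,14],
  [1,9,0,4,4],
  [2,2,12,13,8,14,8],
  [14,10,13,9],
  [8,11,8,0,13,4,10,1,3,3],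
  [6,15,6,15,6,15,6,15,6,15],
  [3,9,2,13,4,13,12,10],
  [8,9,8,10,8,9,14,0,11,0,0,0],
  [10,12,9,11,15],
  [10,14,9,13],
  [10,16,9,15],
  [4,5],
  [1,1,3,0,0,2],
  [13,2,5,3],
  [11,3,5,2],
  [15,15,14,5,13,4],
  [12,16,11,15],
  [3,4,2,12],
  [2,4,3,14],
  [8,0,0,8,13,16,5,1,2,1,3,3,1],
  [16,16,12,5,11,4],
  [5,5,5,5,5],
  [7,3,6,2],
  [5,12,4,11,15,15],
  [5,5,1,10,0],
  [1,4,0,10],
  [0,0,0,7,1,6],
  [16,10,15,9],
  [6,8,3,9,1,8,1,8,1,15,13,4,2,0,3,3,1],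
  [15,3,16,2],
  [16,5,15,4],
  [14,16,13,15],
  [16,14,15,13],
  [4,12,4,14,8,16,8],
  [4,12,14,14,8,3,8],
  [8,7,5,7,2,1,3,5,7,1,5,0,5,1,4,0,2,2],
  [3,1,1,2,0,0],
  [12,12,4,13,1,12,0],
  [5,14,4,13,16,16],
  [16,16,16,16,16],
  [16,14,12,13,11],
  [4,4,4,4,4],
  [0,0,16,7,15,7,16,7],
  [16,7,16,7,16,7,16,7,16,7],
  [3,3,3,3,3],
  [2,2,0,9,5,14,1,8,12,8],
  [5,10,4,9,16],
  [16,12,10,11,9],
  [0,2,2,1,3,5,14,16,0,8,0,8,0,10,2,8,7],
  [9,11,14,5,14,3,10,2],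
  [4,10,12,13,4,13,1,14,0],
  [1,1,1,12,1,13,10,8,9,8,10,8],
  [3,11,2,11,11,14,5,5],
  [4,4,13,12,12,3,12,2],
  [2,11,2,5,8,5,8],
  [0,0,4,15,14,8,1,2,1,3,3,1,8],
  [2,2,2,2,2],
  [1,13,0,14,5,14,11,9,5],
  [0,2,0,2,0,2,0,2],
  [3,1,3,1,3,1,3,1],
  [8,0,2,2,0,3,0,8,13,16,5,1,1],
  [3,3,1,5,0,4,1,4,0,6,4,2,0,3,6,4,6,8],
  [1,3,0,2,1,3,0,2,1,3,0,2],
  [3,1,2,0,3,1,2,0,3,1,2,0],
  [0,0,0,0,0,0,0,0],
  [1,1,1,1,1,1,1,1]]

noncomputable def invL : List ℕ := [1,0,3,2,5,4,7,6,8,10,9,12,11,14,13,16,15]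

/-- How the relators used follow from the given ones. -/
noncomputable def hints : List (ℕ × Bool × List ℕ) := [(51,false,[]),
  (51,false,[]),
  (51,false,[]),
  (51,false,[]),
  (51,false,[]),
  (51,false,[]),
  (51,false,[]),
  (51,false,[]),
  (48,false,[]),
  (47,false,[]),
  (46,false,[]),
  (51,false,[]),
  (14,false,[]),
  (51,false,[]),
  (42,false,[]),
  (37,false,[]),
  (40,false,[]),
  (39,false,[]),
  (32,true,[]),
  (35,false,[]),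
  (50,false,[]),
  (51,false,[]),
  (51,false,[]),
  (51,false,[]),
  (17,false,[]),
  (51,false,[]),
  (22,true,[]),
  (20,false,[]),
  (28,false,[]),
  (19,false,[]),
  (32,false,[]),
  (41,true,[]),
  (51,false,[]),
  (46,true,[]),
  (30,false,[]),
  (51,false,[]),
  (29,false,[]),
  (39,true,[]),
  (27,true,[]),
  (38,false,[]),
  (49,false,[]),
  (33,false,[]),
  (44,false,[]),
  (26,false,[]),
  (27,false,[]),
  (21,false,[]),
  (51,false,[]),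
  (12,false,[]),
  (16,false,[]),
  (15,false,[]),
  (25,true,[]),
  (22,false,[]),
  (15,true,[]),
  (16,true,[]),
  (41,false,[]),
  (24,true,[]),
  (18,true,[]),
  (47,true,[]),
  (24,false,[]),
  (29,true,[]),
  (14,true,[]),
  (48,true,[]),
  (21,true,[]),
  (45,false,[]),
  (35,true,[]),
  (20,true,[]),
  (23,false,[]),
  (23,true,[]),
  (40,true,[]),
  (42,true,[]),
  (36,false,[]),
  (12,true,[]),
  (30,true,[]),
  (25,false,[]),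
  (19,true,[]),
  (28,true,[]),
  (18,false,[]),
  (50,true,[]),
  (49,true,[]),
  (10,true,[]),
  (38,true,[]),
  (17,true,[]),
  (26,true,[]),
  (45,true,[]),
  (33,true,[]),
  (31,true,[]),
  (44,true,[]),
  (34,false,[]),
  (34,true,[]),
  (37,true,[]),
  (43,true,[]),
  (10,false,[]),
  (31,false,[]),
  (11,false,[]),
  (11,true,[]),
  (43,false,[]),
  (36,true,[]),
  (13,false,[]),
  (13,true,[]),
  (9,false,[]),
  (9,true,[])]

theorem l0g (a : ℕ) : Glue (l0c a) := fun _ _ _ => chk_append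
theorem l0f0 : l0f 0 = 0 :=
  show l0c 0 0 31 = 0 from c0
theorem l0f1 : l0f 1 = 0 :=
  show l0c 1 0 31 = 0 from c1
theorem l0f2 : l0f 2 = 0 :=
  show l0c 2 0 31 = 0 from c2
theorem l0f3 : l0f 3 = 0 :=
  show l0c 3 0 31 = 0 from c3
theorem l0f4 : l0f 4 = 0 :=
  show l0c 4 0 31 = 0 from c4
theorem l0f5 : l0f 5 = 0 :=
  show l0c 5 0 31 = 0 from c5
theorem l0f6 : l0f 6 = 0 :=
  show l0c 6 0 31 = 0 from c6
theorem l0f7 : l0f 7 = 0 :=
  show l0c 7 0 31 = 0 from c7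
theorem l0f8 : l0f 8 = 0 :=
  show l0c 8 0 31 = 0 from c8
theorem l0f9 : l0f 9 = 0 :=
  show l0c 9 0 31 = 0 from c9
theorem l0f10 : l0f 10 = 0 :=
  show l0c 10 0 31 = 0 from c10
theorem l0f11 : l0f 11 = 0 :=
  show l0c 11 0 31 = 0 from c11
theorem l0f12 : l0f 12 = 0 :=
  show l0c 12 0 31 = 0 from c12
theorem l0f13 : l0f 13 = 0 :=
  show l0c 13 0 31 = 0 from c13
theorem l0f14 : l0f 14 = 0 :=
  show l0c 14 0 31 = 0 from c14
theorem l0f15 : l0f 15 = 0 :=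
  show l0c 15 0 31 = 0 from c15
theorem l0f16 : l0f 16 = 0 :=
  show l0c 16 0 31 = 0 from c16
theorem l0f17 : l0f 17 = 0 :=
  show l0c 17 0 31 = 0 from c17
theorem l0all : ∀ a, a < 18 → l0f a = 0 :=
  allz_snoc (allz_snoc (allz_snoc (allz_snoc (allz_snoc (allz_snoc (allz_snoc (allz_snoc (allz_snoc (allz_snoc (allz_snoc (allz_snoc (allz_snoc (allz_snoc (allz_snoc (allz_snoc (allz_snoc (allz_snoc (allz_zero _) l0f0) l0f1) l0f2) l0f3) l0f4) l0f5) l0f6) l0f7) l0f8) l0f9) l0f10) l0f11) l0f12) l0f13) l0f14) l0f15) l0f16) l0f17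
theorem l0ru : allLt (rusChk R (nat_lit 17) l0R) 18 = true := by decide +kernel
theorem l0gm : Glue l0m := fun _ _ _ => chkM_append
theorem l0mm : l0m 3906 56 = 0 := c18
theorem l0_ok : Idx R [0,1,2,3,4,5,6,7,8,9,10,11,12,13,14,15,16] [0,1,2,3,4,5,9,10,11,12,13,14,15,16] 3906 :=
  idx_of_chk (cm := 56) (q := 8) (d := 5) (s2 := 32) (full := 31) (f := l0f) (by decide +kernel) (by decide +kernel) (fun _ => rfl) l0all l0ru (by decide +kernel) (by decide +kernel) l0mm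

theorem l1g (a : ℕ) : Glue (l1c a) := fun _ _ _ => chk_append
theorem l1f0 : l1f 0 = 0 :=
  show l1c 0 0 15 = 0 from c19
theorem l1f1 : l1f 1 = 0 :=
  show l1c 1 0 15 = 0 from c20
theorem l1f2 : l1f 2 = 0 :=
  show l1c 2 0 15 = 0 from c21
theorem l1f3 : l1f 3 = 0 :=
  show l1c 3 0 15 = 0 from c22
theorem l1f4 : l1f 4 = 0 :=
  show l1c 4 0 15 = 0 from c23
theorem l1f5 : l1f 5 = 0 :=
  show l1c 5 0 15 = 0 from c24
theorem l1f6 : l1f 6 = 0 :=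
  show l1c 6 0 15 = 0 from c25
theorem l1f7 : l1f 7 = 0 :=
  show l1c 7 0 15 = 0 from c26
theorem l1f8 : l1f 8 = 0 :=
  show l1c 8 0 15 = 0 from c27
theorem l1f9 : l1f 9 = 0 :=
  show l1c 9 0 15 = 0 from c28
theorem l1f10 : l1f 10 = 0 :=
  show l1c 10 0 15 = 0 from c29
theorem l1f11 : l1f 11 = 0 :=
  show l1c 11 0 15 = 0 from c30
theorem l1f12 : l1f 12 = 0 :=
  show l1c 12 0 15 = 0 from c31
theorem l1f13 : l1f 13 = 0 :=
  show l1c 13 0 15 = 0 from c32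
theorem l1f14 : l1f 14 = 0 :=
  show l1c 14 0 15 = 0 from c33
theorem l1f15 : l1f 15 = 0 :=
  show l1c 15 0 15 = 0 from c34
theorem l1f16 : l1f 16 = 0 :=
  show l1c 16 0 15 = 0 from c35
theorem l1f17 : l1f 17 = 0 :=
  show l1c 17 0 15 = 0 from c36
theorem l1all : ∀ a, a < 18 → l1f a = 0 :=
  allz_snoc (allz_snoc (allz_snoc (allz_snoc (allz_snoc (allz_snoc (allz_snoc (allz_snoc (allz_snoc (allz_snoc (allz_snoc (allz_snoc (allz_snoc (allz_snoc (allz_snoc (allz_snoc (allz_snoc (allz_snoc (allz_zero _) l1f0) l1f1) l1f2) l1f3) l1f4) l1f5) l1f6) l1f7) l1f8) l1f9) l1f10) l1f11) l1f12) l1f13) l1f14) l1f15) l1f16) l1f17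
theorem l1ru : allLt (rusChk R (nat_lit 17) l1R) 18 = true := by decide +kernel
theorem l1gm : Glue l1m := fun _ _ _ => chkM_append
theorem l1mm : l1m 3125 29 = 0 := c37
theorem l1_ok : Idx R [0,1,2,3,4,5,9,10,11,12,13,14,15,16] [0,1,2,3] 3125 :=
  idx_of_chk (cm := 29) (q := 8) (d := 4) (s2 := 30) (full := 15) (f := l1f) (by decide +kernel) (by decide +kernel) (fun _ => rfl) l1all l1ru (by decide +kernel) (by decide +kernel) l1mm

theorem l2all : ∀ a, a < 18 → l2f a = 0 :=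
  allz_of_orR c38
theorem l2ru : allLt (rusChk R (nat_lit 17) l2R) 18 = true := by decide +kernel
theorem l2gm : Glue l2m := fun _ _ _ => chkM_append
theorem l2mm : l2m 480 4 = 0 := c39
theorem l2_ok : Idx R [0,1,2,3] [] 480 :=
  idx_of_chk (cm := 4) (q := 8) (d := 2) (s2 := 26) (full := 3) (f := l2f) (by decide +kernel) (by decide +kernel) (fun _ => rfl) l2all l2ru (by decide +kernel) (by decide +kernel) l2mm

theorem bounds : Bounds R [0,1,2,3,4,5,6,7,8,9,10,11,12,13,14,15,16] 5859000000 := fun _ _ y hR =>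
  (show 3906 * (3125 * (480 * (1))) = 5859000000 by decide +kernel) ▸ l0_ok.bound hR (l1_ok.bound hR (l2_ok.bound hR (bound_nil y)))

/-- The given relators. -/
noncomputable def R0 : List (List ℕ) := [[0,1],
  [2,3],
  [4,5],
  [6,7],
  [8,8],
  [9,10],
  [11,12],
  [13,14],
  [15,16],
  [0,0,0,0,0,0,0,0],
  [2,2,2,2,2],
  [0,2,0,2,0,2,0,2],
  [1,1,3,0,0,2],
  [1,3,0,2,1,3,0,2,1,3,0,2],
  [9,1,5,0],
  [11,3,5,2],
  [13,2,5,3],
  [15,10,5,9,4],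
  [4,4,4,4,4],
  [15,15,15,15,15],
  [5,16,4,15],
  [10,16,9,15],
  [12,16,11,15],
  [14,16,13,15],
  [5,12,4,11,15,15],
  [5,14,4,13,16,16],
  [10,12,9,11,15],
  [10,14,9,13],
  [12,14,11,13,15],
  [1,9,0,4,4],
  [1,11,0,14,5,11,11],
  [1,13,0,14,5,14,11,9,5],
  [1,15,0,16,16],
  [3,9,2,13,4,13,12,10],
  [3,11,2,11,11,14,5,5],
  [3,15,2,16],
  [8,7,5,7,2,1,3,5,7,1,5,0,5,1,4,0,2,2],
  [8,4,8,4,3,12,3],
  [8,11,8,0,13,4,10,1,3,3],
  [8,13,8,14,11,3,3],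
  [8,15,8,13,5,11,5],
  [8,0,0,8,13,16,5,1,2,1,3,3,1],
  [8,2,8,13,13,11,5],
  [8,0,2,2,0,3,0,8,13,16,5,1,1],
  [8,9,8,10,8,9,14,0,11,0,0,0],
  [6,8,3,9,1,8,1,8,1,15,13,4,2,0,3,3,1],
  [6,6,1,1,1,1],
  [3,7,2,6],
  [7,0,6,1,1,1],
  [6,15,6,15,6,15,6,15,6,15],
  [6,15,6,16,6,15,1,1]]

theorem bounds0 : Bounds R0 [0,1,2,3,4,5,6,7,8,9,10,11,12,13,14,15,16] 5859000000 :=
  bounds_of_ders (n := 17) (inv := invOf invL) (hs := hints) bounds (by decide +kernel) (invOf_ge' rfl)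
    (by decide +kernel) (by decide +kernel) (by decide +kernel)

end Cfsg.Agent.TCX.G25
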