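import Cfsg.Agent.Lib.TCX.G25.Defs

set_option autoImplicit false
set_option maxRecDepth 100000
set_option Elab.async false

namespace Cfsg.Agent.TCX.G25

theorem c0 : l0c 0 0 31 = 0 := by decide +kernel
theorem c1 : l0c 1 0 31 = 0 := by decide +kernel
theorem c2 : l0c 2 0 31 = 0 := by decide +kernel
theorem c3 : l0c 3 0 31 = 0 := by decide +kernel
theorem c4 : l0c 4 0 31 = 0 := by decide +kernel
theorem c5 : l0c 5 0 31 = 0 := by decide +kernel
theorem c6 : l0c 6 0 31 = 0 := by decide +kernel
theorem c7 : l0c 7 0 31 = 0 := by decide +kernel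
theorem c8 : l0c 8 0 31 = 0 := by decide +kernel
theorem c9 : l0c 9 0 31 = 0 := by decide +kernel
theorem c10 : l0c 10 0 31 = 0 := by decide +kernel
theorem c11 : l0c 11 0 31 = 0 := by decide +kernel
theorem c12 : l0c 12 0 31 = 0 := by decide +kernel
theorem c13 : l0c 13 0 31 = 0 := by decide +kernel
theorem c14 : l0c 14 0 31 = 0 := by decide +kernel
theorem c15 : l0c 15 0 31 = 0 := by decide +kernel
theorem c16 : l0c 16 0 31 = 0 := by decide +kernel
theorem c17 : l0c 17 0 31 = 0 := by decide +kernel
theorem c18 : l0m 3906 56 = 0 := by decide +kernel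
theorem c19 : l1c 0 0 15 = 0 := by decide +kernel
theorem c20 : l1c 1 0 15 = 0 := by decide +kernel
theorem c21 : l1c 2 0 15 = 0 := by decide +kernel
theorem c22 : l1c 3 0 15 = 0 := by decide +kernel
theorem c23 : l1c 4 0 15 = 0 := by decide +kernel
theorem c24 : l1c 5 0 15 = 0 := by decide +kernel
theorem c25 : l1c 6 0 15 = 0 := by decide +kernel
theorem c26 : l1c 7 0 15 = 0 := by decide +kernel
theorem c27 : l1c 8 0 15 = 0 := by decide +kernel
theorem c28 : l1c 9 0 15 = 0 := by decide +kernel
theorem c29 : l1c 10 0 15 = 0 := by decide +kernel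
theorem c30 : l1c 11 0 15 = 0 := by decide +kernel
theorem c31 : l1c 12 0 15 = 0 := by decide +kernel
theorem c32 : l1c 13 0 15 = 0 := by decide +kernel
theorem c33 : l1c 14 0 15 = 0 := by decide +kernel
theorem c34 : l1c 15 0 15 = 0 := by decide +kernel
theorem c35 : l1c 16 0 15 = 0 := by decide +kernel
theorem c36 : l1c 17 0 15 = 0 := by decide +kernel
theorem c37 : l1m 3125 29 = 0 := by decide +kernel
theorem c38 : orR l2f 0 18 = 0 := by decide +kernel
theorem c39 : l2m 480 4 = 0 := by decide +kernel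

end Cfsg.Agent.TCX.G25
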