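import Cfsg.Agent.Lib.TCX.G25.D0

set_option autoImplicit false
set_option maxRecDepth 100000
set_option Elab.async false

namespace Cfsg.Agent.TCX.G25

noncomputable def l0r0 : Bt Ru := (.node (.node (.node (.node (.node (.node (.leaf ⟨[6,1,1,1,7],8,1⟩) (.leaf ⟨[13,4,10,1,3,3,8,11,8],39,3⟩)) (.node (.leaf ⟨[3,1,1,2,0],71,5⟩) (.leaf ⟨[1],13,0⟩))) (.node (.node (.leaf ⟨[0,3,1,1,2],71,4⟩) (.leaf ⟨[8,0,8,0,10,2,8,7,0,2,2,1,3,5,14,16],83,8⟩)) (.node (.leaf ⟨[2,2,0,3,0,8,13,16,5,1,1,8],95,1⟩) (.leaf ⟨[1],13,0⟩)))) (.node (.node (.node (.leaf ⟨[5,1,4,0,2,2,8,7,5,7,2,1,3,5,7,1,5],70,11⟩) (.leaf ⟨[3,0,8,13,16,5,1,1,8,0,2,2],95,4⟩)) (.node (.leaf ⟨[2,0,2,0,2,0,2],93,0⟩) (.leaf ⟨[1],13,0⟩))) (.node (.node (.leaf ⟨[7,1,6,0,0],61,2⟩)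 (.leaf ⟨[1],13,0⟩)) (.node (.leaf ⟨[3,0,4,15,14,8,1,1,8,0,2,2],31,3⟩) (.leaf ⟨[1],13,0⟩))))) (.node (.node (.node (.node (.leaf ⟨[9,1,5],12,3⟩) (.leaf ⟨[0,4,15,14,8,1,2,1,3,3,1,8],90,0⟩)) (.node (.leaf ⟨[7,7,0,0,0],33,3⟩) (.leaf ⟨[1],13,0⟩))) (.node (.node (.leaf ⟨[14,5,11,11,1,11],34,2⟩) (.leaf ⟨[11,0,0,0,8,9,8,10,8,9,14],42,7⟩)) (.node (.leaf ⟨[0,0,0,7,7],33,0⟩) (.leaf ⟨[1],13,0⟩)))) (.node (.node (.node (.leaf ⟨[15,15,1,16],18,4⟩) (.leaf ⟨[16,7,15,7,16,7,0],77,1⟩)) (.node (.leaf ⟨[2,1,3,0,2,1,3,0,2,1,3],97,10⟩) (.leaf ⟨[1],13,0⟩))) (.node (.node (.leaf ⟨[10,1,4],60,2⟩) (.leaf ⟨[1],13,0⟩)) (.node (.leaf ⟨[8,13,16,5,1,1,8,0,2,2,0,3],95,6⟩) (.leaf ⟨[1],13,0⟩)))))) (.node (.node (.node (.node (.node (.leaf ⟨[1],13,0⟩) (.leaf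 ⟨[0,0,7,7,0],33,1⟩)) (.node (.leaf ⟨[12,12,4,13,1,12],72,6⟩) (.leaf ⟨[1],13,0⟩))) (.node (.node (.leaf ⟨[5,5,1,10],59,4⟩) (.leaf ⟨[6,4,2,0,3,6,4,6,8,3,3,1,5,0,4,1,4],96,8⟩)) (.node (.leaf ⟨[8,13,16,5,1,2,1,3,3,1,8,0],54,2⟩) (.leaf ⟨[1],13,0⟩)))) (.node (.node (.node (.leaf ⟨[0,2,1,1,3],47,3⟩) (.leaf ⟨[0,0,8,9,8,10,8,9,14,0,11],42,9⟩)) (.node (.leaf ⟨[0,8,13,16,5,1,2,1,3,3,1,8],54,1⟩) (.leaf ⟨[1],13,0⟩))) (.node (.node (.leaf ⟨[16,16,1,15],30,2⟩) (.leaf ⟨[1],13,0⟩)) (.node (.leaf ⟨[14,5,14,11,9,5,1,13],92,2⟩) (.leaf ⟨[1],13,0⟩))))) (.node (.node (.node (.node (.leaf ⟨[4,4,1,9],36,2⟩) (.leaf ⟨[4,10,12,13,4,13,1,14],85,8⟩)) (.node (.leaf ⟨[8,0,10,2,8,7,0,2,2,1,3,5,14,16,0,8],83,10⟩) (.leaf ⟨[1],13,0⟩))) (.node (.node (.leaf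 ⟨[0,7,7,0,0],33,2⟩) (.leaf ⟨[1],13,0⟩)) (.node (.leaf ⟨[0,0,7,1,6],61,0⟩) (.leaf ⟨[1],13,0⟩)))) (.node (.node (.node (.leaf ⟨[0,16,7,15,7,16,7],77,0⟩) (.leaf ⟨[10,2,8,7,0,2,2,1,3,5,14,16,0,8,0,8],83,12⟩)) (.node (.leaf ⟨[4,15,14,8,1,2,1,3,3,1,8,0],90,1⟩) (.leaf ⟨[1],13,0⟩))) (.node (.node (.leaf ⟨[2,1,1,3,0],47,4⟩) (.leaf ⟨[1],13,0⟩)) (.node (.leaf ⟨[2,2,0,3,0,4,15,14,8,1,1,8],31,0⟩) (.leaf ⟨[1],13,0⟩)))))))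
noncomputable def l0r1 : Bt Ru := (.node (.node (.node (.node (.node (.node (.leaf ⟨[0],0,0⟩) (.leaf ⟨[8,0,0,8,13,16,5,1,2,1,3,3],54,12⟩)) (.node (.leaf ⟨[5,0,9],12,1⟩) (.leaf ⟨[0],0,0⟩))) (.node (.node (.leaf ⟨[10,0,5,5],59,2⟩) (.leaf ⟨[0],0,0⟩)) (.node (.leaf ⟨[8,12,8,2,2,0,9,5,14],80,6⟩) (.leaf ⟨[0],0,0⟩)))) (.node (.node (.node (.leaf ⟨[15,0,16,16],30,0⟩) (.leaf ⟨[1,1,1,6,6],10,2⟩)) (.node (.leaf ⟨[1,2,0,0,3],71,1⟩) (.leaf ⟨[0],0,0⟩))) (.node (.node (.leaf ⟨[4,0,10],60,0⟩) (.leaf ⟨[0],0,0⟩)) (.node (.leaf ⟨[1,8,0,2,2,0,3,0,8,13,16,5],95,11⟩) (.leaf ⟨[0],0,0⟩))))) (.node (.node (.node (.node (.leaf ⟨[1,6,15,6,16,6,15],20,6⟩) (.leaf ⟨[1,1,6,6,1],10,3⟩)) (.node (.leaf ⟨[1,12,1,13,10,8,9,8,10,8,1],86,1⟩) (.leaf ⟨[0],0,0⟩)))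 (.node (.node (.leaf ⟨[8,1,8,1,15,13,4,2,0,3,3,1,6,8,3,9],63,4⟩) (.leaf ⟨[0],0,0⟩)) (.node (.leaf ⟨[6,6,1,1,1],10,5⟩) (.leaf ⟨[0],0,0⟩)))) (.node (.node (.node (.leaf ⟨[3,0,0,2,1],47,1⟩) (.leaf ⟨[6,8,3,9,1,8,1,8,1,15,13,4,2,0,3,3],63,16⟩)) (.node (.leaf ⟨[6,0,0,0,7],61,4⟩) (.leaf ⟨[0],0,0⟩))) (.node (.node (.leaf ⟨[7,0,6,1,1],8,5⟩) (.leaf ⟨[0],0,0⟩)) (.node (.leaf ⟨[8,0,2,2,0,3,0,8,13,16,5,1],95,12⟩) (.leaf ⟨[0],0,0⟩)))))) (.node (.node (.node (.node (.node (.leaf ⟨[16,0,15,15],18,2⟩) (.leaf ⟨[3,1,3,1,3,1,3],94,7⟩)) (.node (.leaf ⟨[1,3,0,0,2],47,0⟩) (.leaf ⟨[0],0,0⟩))) (.node (.node (.leaf ⟨[15,13,4,2,0,3,3,1,6,8,3,9,1,8,1,8],63,8⟩) (.leaf ⟨[0],0,0⟩)) (.node (.leaf ⟨[1,1,7,0,6],8,3⟩) (.leaf ⟨[0],0,0⟩)))) (.node (.node (.node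 (.leaf ⟨[9,0,4,4],36,0⟩) (.leaf ⟨[2,1,3,3,1,8,0,0,8,13,16,5],54,7⟩)) (.node (.leaf ⟨[14,0,4,10,12,13,4,13],85,6⟩) (.leaf ⟨[0],0,0⟩))) (.node (.node (.leaf ⟨[12,0,12,12,4,13],72,4⟩) (.leaf ⟨[0],0,0⟩)) (.node (.leaf ⟨[8,1,15,13,4,2,0,3,3,1,6,8,3,9,1,8],63,6⟩) (.leaf ⟨[0],0,0⟩))))) (.node (.node (.node (.node (.leaf ⟨[1,8,0,2,2,0,3,0,4,15,14,8],31,10⟩) (.leaf ⟨[1,7,0,6,1],8,4⟩)) (.node (.leaf ⟨[13,0,14,5,14,11,9,5],92,0⟩) (.leaf ⟨[0],0,0⟩))) (.node (.node (.leaf ⟨[2,0,0,3,1],71,2⟩) (.leaf ⟨[0],0,0⟩)) (.node (.leaf ⟨[1,6,6,1,1],10,4⟩) (.leaf ⟨[0],0,0⟩)))) (.node (.node (.node (.leaf ⟨[3,3,1,8,0,0,8,13,16,5,1,2],54,9⟩) (.leaf ⟨[8,0,0,4,15,14,8,1,2,1,3,3],90,11⟩)) (.node (.leaf ⟨[8,0,2,2,0,3,0,4,15,14,8,1],31,11⟩) (.leaf ⟨[0],0,0⟩)))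 (.node (.node (.leaf ⟨[11,0,14,5,11,11],34,0⟩) (.leaf ⟨[0],0,0⟩)) (.node (.leaf ⟨[3,0,2,1,3,0,2,1,3,0,2],97,0⟩) (.leaf ⟨[0],0,0⟩)))))))
noncomputable def l0r2 : Bt Ru := (.node (.node (.node (.node (.node (.leaf ⟨[6,3,7],9,2⟩) (.leaf ⟨[4,4,13,12,12,3,12],88,7⟩)) (.node (.leaf ⟨[11,3,5],49,3⟩) (.leaf ⟨[8,7,0,2,2,1,3,5,14,16,0,8,0,8,0,10],83,14⟩))) (.node (.node (.leaf ⟨[13,4,13,12,10,3,9],41,2⟩) (.leaf ⟨[2,12,13,8,14,8],37,0⟩)) (.node (.leaf ⟨[2,2,2,2],91,0⟩) (.leaf ⟨[0,3,0,4,15,14,8,1,1,8,0,2],31,2⟩)))) (.node (.node (.node (.leaf ⟨[16,3,15],19,2⟩) (.leaf ⟨[8,7,5,7,2,1,3,5,7,1,5,0,5,1,4,0,2],70,17⟩)) (.node (.leaf ⟨[9,11,14,5,14,3,10],84,7⟩) (.leaf ⟨[2,0,3,0,8,13,16,5,1,1,8,0],95,2⟩))) (.node (.node (.leaf ⟨[4,3,14],53,0⟩)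 (.leaf ⟨[5,8,5,8,2,11],89,2⟩)) (.node (.leaf ⟨[0,0,3,1,1],71,3⟩) (.leaf ⟨[2,0,3,0,4,15,14,8,1,1,8,0],31,1⟩))))) (.node (.node (.node (.node (.leaf ⟨[8,13,13,11,5,8],14,1⟩) (.leaf ⟨[7,3,6],57,3⟩)) (.node (.leaf ⟨[5,3,13],48,1⟩) (.leaf ⟨[1,3,3,1,8,0,0,8,13,16,5,1],54,8⟩))) (.node (.node (.leaf ⟨[1,1,3,0,0],47,5⟩) (.leaf ⟨[1,3,3,1,8,0,0,4,15,14,8,1],90,7⟩)) (.node (.leaf ⟨[12,3,4],52,2⟩) (.leaf ⟨[1,3,5,7,1,5,0,5,1,4,0,2,2,8,7,5,7],70,4⟩)))) (.node (.node (.node (.leaf ⟨[3],23,0⟩) (.leaf ⟨[0,2,0,2,0,2,0],93,7⟩)) (.node (.leaf ⟨[12,13,8,14,8,2],37,1⟩) (.leaf ⟨[1,3,0,2,1,3,0,2,1,3,0],97,11⟩))) (.node (.node (.leaf ⟨[15,3,16],64,3⟩) (.leaf ⟨[11,2,5,8,5,8],89,0⟩)) (.node (.leaf ⟨[11,11,14,5,5,3,11],87,2⟩) (.leaf ⟨[3],23,0⟩))))))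
noncomputable def l0r3 : Bt Ru := (.node (.node (.node (.node (.node (.leaf ⟨[2],1,0⟩) (.leaf ⟨[0,0,2,1,1],47,2⟩)) (.node (.leaf ⟨[14,2,4],53,2⟩) (.leaf ⟨[1,8,0,0,4,15,14,8,1,2,1,3],90,10⟩))) (.node (.node (.leaf ⟨[6,2,7],57,1⟩) (.leaf ⟨[8,11,8,0,13,4,10,1,3],39,9⟩)) (.node (.leaf ⟨[11,2,11,11,14,5,5],87,0⟩) (.leaf ⟨[5,14,16,0,8,0,8,0,10,2,8,7,0,2,2,1],83,4⟩)))) (.node (.node (.node (.leaf ⟨[9,2,13,4,13,12,10],41,0⟩) (.leaf ⟨[1,3,1,3,1,3,1],94,0⟩)) (.node (.leaf ⟨[8,4,12,14,14,8],69,5⟩) (.leaf ⟨[5,7,1,5,0,5,1,4,0,2,2,8,7,5,7,2,1],70,6⟩))) (.node (.node (.leaf ⟨[4,2,12],52,0⟩) (.leaf ⟨[0,4,15,14,8,1,1,8,0,2,2,0],31,4⟩)) (.node (.leaf ⟨[5,2,11],49,1⟩) (.leaf ⟨[3,1,8,0,0,4,15,14,8,1,2,1],90,9⟩))))) (.node (.node (.node (.node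 (.leaf ⟨[15,2,16],19,0⟩) (.leaf ⟨[10,2,9,11,14,5,14],84,5⟩)) (.node (.leaf ⟨[3,3,3,3],79,0⟩) (.leaf ⟨[3,8,13,8,14,11],17,5⟩))) (.node (.node (.leaf ⟨[13,2,5],48,3⟩) (.leaf ⟨[12,3,8,4,8,4],15,4⟩)) (.node (.leaf ⟨[12,2,4,4,13,12,12],88,5⟩) (.leaf ⟨[9,1,8,1,8,1,15,13,4,2,0,3,3,1,6,8],63,2⟩)))) (.node (.node (.node (.leaf ⟨[7,2,6],9,0⟩) (.leaf ⟨[1,1,2,0,0],71,0⟩)) (.node (.leaf ⟨[8,13,8,14,11,3],17,6⟩) (.leaf ⟨[3,1,6,8,3,9,1,8,1,8,1,15,13,4,2,0],63,14⟩))) (.node (.node (.leaf ⟨[16,2,15],64,1⟩) (.leaf ⟨[3,1,8,0,0,8,13,16,5,1,2,1],54,10⟩)) (.node (.leaf ⟨[8,4,8,4,3,12],15,6⟩) (.leaf ⟨[2],1,0⟩))))))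
noncomputable def l0r4 : Bt Ru := (.node (.node (.node (.node (.node (.leaf ⟨[8,4,3,12,3,8],15,1⟩) (.leaf ⟨[1,9,0,4],36,4⟩)) (.node (.leaf ⟨[16,5,15],65,3⟩) (.leaf ⟨[15,15,14,5,13],50,5⟩))) (.node (.node (.leaf ⟨[5],46,0⟩) (.leaf ⟨[6,8,3,3,1,5,0,4,1,4,0,6,4,2,0,3,6],96,15⟩)) (.node (.leaf ⟨[11,15,15,5,12],58,2⟩) (.leaf ⟨[5],46,0⟩)))) (.node (.node (.node (.leaf ⟨[15,5,16],27,2⟩) (.leaf ⟨[3,12,3,8,4,8],15,3⟩)) (.node (.leaf ⟨[13,16,16,5,14],73,2⟩) (.leaf ⟨[13,12,10,3,9,2,13],41,4⟩))) (.node (.node (.leaf ⟨[16,16,12,5,11],55,5⟩) (.leaf ⟨[4,13,12,12,3,12,2],88,0⟩)) (.node (.leaf ⟨[13,1,12,0,12,12],72,2⟩) (.leaf ⟨[5],46,0⟩))))) (.node (.node (.node (.node (.leaf ⟨[15,10,5,9],24,4⟩) (.leaf ⟨[9,16,5,10],81,2⟩)) (.node (.leaf ⟨[3,14,2],53,1⟩)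 (.leaf ⟨[12,14,14,8,3,8],69,0⟩))) (.node (.node (.leaf ⟨[2,12,3],52,1⟩) (.leaf ⟨[2,0,3,6,4,6,8,3,3,1,5,0,4,1,4,0,6],96,10⟩)) (.node (.leaf ⟨[0,10,1],60,1⟩) (.leaf ⟨[5],46,0⟩)))) (.node (.node (.node (.leaf ⟨[4,1,9,0],36,3⟩) (.leaf ⟨[14,8,16,8,4,12],68,2⟩)) (.node (.leaf ⟨[4,4,4,4],76,0⟩) (.leaf ⟨[15,14,8,1,2,1,3,3,1,8,0,0],90,2⟩))) (.node (.node (.leaf ⟨[12,4,14,8,16,8],68,0⟩) (.leaf ⟨[10,1,3,3,8,11,8,0,13],39,5⟩)) (.node (.leaf ⟨[10,12,13,4,13,1,14,0],85,0⟩) (.leaf ⟨[5],46,0⟩))))))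
noncomputable def l0r5 : Bt Ru := (.node (.node (.node (.node (.node (.leaf ⟨[4],2,0⟩) (.leaf ⟨[1,10,0,5],59,1⟩)) (.node (.leaf ⟨[7,2,1,3,5,7,1,5,0,5,1,4,0,2,2,8,7],70,2⟩) (.leaf ⟨[14,3,10,2,9,11,14],84,3⟩))) (.node (.node (.leaf ⟨[5,5,5,5],56,0⟩) (.leaf ⟨[8,15,8,13,5,11],16,6⟩)) (.node (.leaf ⟨[13,4,15,15,14],50,3⟩) (.leaf ⟨[1,1,8,0,2,2,0,3,0,8,13,16],95,10⟩)))) (.node (.node (.node (.leaf ⟨[9,4,15,10],24,2⟩) (.leaf ⟨[8,2,8,13,13,11],14,6⟩)) (.node (.leaf ⟨[14,1,8,12,8,2,2,0,9],80,4⟩) (.leaf ⟨[11,5,8,15,8,13],16,4⟩))) (.node (.node (.leaf ⟨[15,4,16],65,1⟩) (.leaf ⟨[7,1,5,0,5,1,4,0,2,2,8,7,5,7,2,1,3],70,7⟩)) (.node (.leaf ⟨[8,2,11,2,5,8],89,5⟩) (.leaf ⟨[4],2,0⟩))))) (.node (.node (.node (.node (.leaf ⟨[0,9,1],12,2⟩) (.leaf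 ⟨[11,11,1,11,0,14],34,4⟩)) (.node (.leaf ⟨[11,4,16,16,12],55,3⟩) (.leaf ⟨[14,11,9,5,1,13,0,14],92,4⟩))) (.node (.node (.leaf ⟨[16,4,15],27,0⟩) (.leaf ⟨[8,5,8,2,11,2],89,3⟩)) (.node (.leaf ⟨[14,4,13,16,16],73,0⟩) (.leaf ⟨[4],2,0⟩)))) (.node (.node (.node (.leaf ⟨[3,13,2],48,2⟩) (.leaf ⟨[12,4,11,15,15],58,0⟩)) (.node (.leaf ⟨[5,1,10,0],59,0⟩) (.leaf ⟨[5,3,11,2,11,11,14],87,6⟩))) (.node (.node (.leaf ⟨[2,11,3],49,2⟩) (.leaf ⟨[3,11,2,11,11,14,5],87,7⟩)) (.node (.leaf ⟨[10,4,9,16],81,0⟩) (.leaf ⟨[4],2,0⟩))))))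
noncomputable def l0r6 : Bt Ru := (.node (.node (.node (.node (.leaf ⟨[6,1,1,1,1],10,0⟩) (.leaf ⟨[15,1,1,6,15,6,16],20,4⟩)) (.node (.leaf ⟨[3,7,2],9,3⟩) (.leaf ⟨[4,2,0,3,6,4,6,8,3,3,1,5,0,4,1,4,0],96,9⟩))) (.node (.node (.leaf ⟨[16,6,15,1,1,6,15],20,2⟩) (.leaf ⟨[8,3,3,1,5,0,4,1,4,0,6,4,2,0,3,6,4],96,16⟩)) (.node (.leaf ⟨[8,3,9,1,8,1,8,1,15,13,4,2,0,3,3,1],63,0⟩) (.leaf ⟨[4,6,8,3,3,1,5,0,4,1,4,0,6,4,2,0,3],96,14⟩)))) (.node (.node (.node (.leaf ⟨[1,1,1,1,6],10,1⟩) (.leaf ⟨[1,1,1,7,0],8,2⟩)) (.node (.leaf ⟨[0,0,0,7,1],61,5⟩) (.leaf ⟨[15,6,16,6,15,1,1],20,0⟩))) (.node (.node (.leaf ⟨[7],32,0⟩) (.leaf ⟨[15,6,15,6,15,6,15,6,15],40,0⟩)) (.node (.leaf ⟨[2,7,3],57,2⟩) (.leaf ⟨[7],32,0⟩)))))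
noncomputable def l0r7 : Bt Ru := (.node (.node (.node (.node (.leaf ⟨[6],3,0⟩) (.leaf ⟨[0,6,1,1,1],8,0⟩)) (.node (.leaf ⟨[7,0,0,0,0],33,4⟩) (.leaf ⟨[5,7,2,1,3,5,7,1,5,0,5,1,4,0,2,2,8],70,1⟩))) (.node (.node (.leaf ⟨[3,6,2],57,0⟩) (.leaf ⟨[1,5,0,5,1,4,0,2,2,8,7,5,7,2,1,3,5],70,8⟩)) (.node (.leaf ⟨[15,7,16,7,0,0,16],77,3⟩) (.leaf ⟨[0,0,16,7,15,7,16],77,7⟩)))) (.node (.node (.node (.leaf ⟨[0,0,0,0,7],33,5⟩) (.leaf ⟨[0,2,2,1,3,5,14,16,0,8,0,8,0,10,2,8],83,16⟩)) (.node (.leaf ⟨[2,6,3],9,1⟩) (.leaf ⟨[2,1,3,5,7,1,5,0,5,1,4,0,2,2,8,7,5],70,3⟩))) (.node (.node (.leaf ⟨[1,6,0,0,0],61,3⟩) (.leaf ⟨[16,7,0,0,16,7,15],77,5⟩)) (.node (.leaf ⟨[16,7,16,7,16,7,16,7,16],78,9⟩) (.leaf ⟨[6],3,0⟩)))))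
noncomputable def l0r8 : Bt Ru := (.node (.node (.node (.node (.node (.node (.leaf ⟨[8],11,0⟩) (.leaf ⟨[1,1,8,0,2,2,0,3,0,4,15,14],31,9⟩)) (.node (.leaf ⟨[13,5,11,5,8,15],16,2⟩) (.leaf ⟨[8],11,0⟩))) (.node (.node (.leaf ⟨[14,11,3,3,8,13],17,2⟩) (.leaf ⟨[9,8,10,8,9,14,0,11,0,0,0],42,0⟩)) (.node (.leaf ⟨[0,0,8,13,16,5,1,2,1,3,3,1],54,0⟩) (.leaf ⟨[8],11,0⟩)))) (.node (.node (.node (.leaf ⟨[15,8,13,5,11,5],16,0⟩) (.leaf ⟨[0,2,2,0,3,0,4,15,14,8,1,1],31,12⟩)) (.node (.leaf ⟨[1,2,1,3,3,1,8,0,0,4,15,14],90,5⟩) (.leaf ⟨[8],11,0⟩))) (.node (.node (.leaf ⟨[2,2,12,13,8,14],37,6⟩) (.leaf ⟨[8],11,0⟩)) (.node (.leaf ⟨[0,0,4,15,14,8,1,2,1,3,3,1],90,12⟩) (.leaf ⟨[8],11,0⟩))))) (.node (.node (.node (.node (.leaf ⟨[10,8,9,14,0,11,0,0,0,8,9],42,2⟩)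 (.leaf ⟨[0,8,0,10,2,8,7,0,2,2,1,3,5,14,16,0],83,9⟩)) (.node (.leaf ⟨[5,8,2,11,2,5],89,4⟩) (.leaf ⟨[8],11,0⟩))) (.node (.node (.leaf ⟨[13,13,11,5,8,2],14,2⟩) (.leaf ⟨[1,15,13,4,2,0,3,3,1,6,8,3,9,1,8,1],63,7⟩)) (.node (.leaf ⟨[1,8,1,15,13,4,2,0,3,3,1,6,8,3,9,1],63,5⟩) (.leaf ⟨[8],11,0⟩)))) (.node (.node (.node (.leaf ⟨[3,8,4,12,14,14],69,4⟩) (.leaf ⟨[3,3,1,5,0,4,1,4,0,6,4,2,0,3,6,4,6],96,17⟩)) (.node (.leaf ⟨[16,8,4,12,4,14],68,4⟩) (.leaf ⟨[8],11,0⟩))) (.node (.node (.leaf ⟨[9,14,0,11,0,0,0,8,9,8,10],42,4⟩) (.leaf ⟨[8],11,0⟩)) (.node (.leaf ⟨[2,2,0,9,5,14,1,8,12],80,9⟩) (.leaf ⟨[8],11,0⟩)))))) (.node (.node (.node (.node (.node (.leaf ⟨[14,8,2,2,12,13],37,4⟩) (.leaf ⟨[7,0,2,2,1,3,5,14,16,0,8,0,8,0,10,2],83,15⟩)) (.node (.leaf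 ⟨[4,8,4,3,12,3],15,0⟩) (.leaf ⟨[8],11,0⟩))) (.node (.node (.leaf ⟨[4,12,4,14,8,16],68,6⟩) (.leaf ⟨[13,16,5,1,1,8,0,2,2,0,3,0],95,7⟩)) (.node (.leaf ⟨[11,8,0,13,4,10,1,3,3],39,0⟩) (.leaf ⟨[8],11,0⟩)))) (.node (.node (.node (.leaf ⟨[13,8,14,11,3,3],17,0⟩) (.leaf ⟨[0,13,4,10,1,3,3,8,11],39,2⟩)) (.node (.leaf ⟨[13,16,5,1,2,1,3,3,1,8,0,0],54,3⟩) (.leaf ⟨[8],11,0⟩))) (.node (.node (.leaf ⟨[9,8,10,8,1,1,1,12,1,13,10],86,7⟩) (.leaf ⟨[8],11,0⟩)) (.node (.leaf ⟨[1,1,1,12,1,13,10,8,9,8,10],86,11⟩) (.leaf ⟨[8],11,0⟩))))) (.node (.node (.node (.node (.leaf ⟨[3,9,1,8,1,8,1,15,13,4,2,0,3,3,1,6],63,1⟩) (.leaf ⟨[0,2,2,0,3,0,8,13,16,5,1,1],95,0⟩)) (.node (.leaf ⟨[2,11,2,5,8,5],89,6⟩) (.leaf ⟨[8],11,0⟩))) (.node (.node (.leaf ⟨[4,3,12,3,8,4],15,2⟩)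 (.leaf ⟨[8],11,0⟩)) (.node (.leaf ⟨[12,8,2,2,0,9,5,14,1],80,7⟩) (.leaf ⟨[8],11,0⟩)))) (.node (.node (.node (.leaf ⟨[2,8,13,13,11,5],14,0⟩) (.leaf ⟨[7,5,7,2,1,3,5,7,1,5,0,5,1,4,0,2,2],70,0⟩)) (.node (.leaf ⟨[4,12,14,14,8,3],69,6⟩) (.leaf ⟨[8],11,0⟩))) (.node (.node (.leaf ⟨[10,8,1,1,1,12,1,13,10,8,9],86,9⟩) (.leaf ⟨[8],11,0⟩)) (.node (.leaf ⟨[0,10,2,8,7,0,2,2,1,3,5,14,16,0,8,0],83,11⟩) (.leaf ⟨[8],11,0⟩)))))))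
noncomputable def l0r9 : Bt Ru := (.node (.node (.node (.node (.node (.leaf ⟨[1,5,0],12,0⟩) (.leaf ⟨[8,10,8,1,1,1,12,1,13,10,8],86,8⟩)) (.node (.leaf ⟨[16,5,10,4],81,3⟩) (.leaf ⟨[10],21,0⟩))) (.node (.node (.leaf ⟨[13,10,14],44,2⟩) (.leaf ⟨[10],21,0⟩)) (.node (.leaf ⟨[8,10,8,9,14,0,11,0,0,0,8],42,1⟩) (.leaf ⟨[10],21,0⟩)))) (.node (.node (.node (.leaf ⟨[14,10,13],38,3⟩) (.leaf ⟨[14,0,11,0,0,0,8,9,8,10,8],42,5⟩)) (.node (.leaf ⟨[2,13,4,13,12,10,3],41,1⟩) (.leaf ⟨[10],21,0⟩))) (.node (.node (.leaf ⟨[15,10,16],45,2⟩) (.leaf ⟨[10],21,0⟩)) (.node (.leaf ⟨[11,14,5,14,3,10,2],84,0⟩) (.leaf ⟨[10],21,0⟩))))) (.node (.node (.node (.node (.leaf ⟨[10],21,0⟩) (.leaf ⟨[1,8,1,8,1,15,13,4,2,0,3,3,1,6,8,3],63,3⟩)) (.node (.leaf ⟨[11,15,10,12],43,2⟩)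 (.leaf ⟨[10],21,0⟩))) (.node (.node (.leaf ⟨[0,4,4,1],36,1⟩) (.leaf ⟨[10],21,0⟩)) (.node (.leaf ⟨[16,12,10,11],82,4⟩) (.leaf ⟨[10],21,0⟩)))) (.node (.node (.node (.leaf ⟨[16,10,15],62,3⟩) (.leaf ⟨[10],21,0⟩)) (.node (.leaf ⟨[5,1,13,0,14,5,14,11],92,7⟩) (.leaf ⟨[10],21,0⟩))) (.node (.node (.leaf ⟨[4,15,10,5],24,3⟩) (.leaf ⟨[10],21,0⟩)) (.node (.leaf ⟨[5,14,1,8,12,8,2,2,0],80,3⟩) (.leaf ⟨[10],21,0⟩))))))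
noncomputable def l0r10 : Bt Ru := (.node (.node (.node (.node (.node (.leaf ⟨[9],4,0⟩) (.leaf ⟨[8,1,1,1,12,1,13,10,8,9,8],86,10⟩)) (.node (.leaf ⟨[8,9,8,10,8,1,1,1,12,1,13],86,6⟩) (.leaf ⟨[9],4,0⟩))) (.node (.node (.leaf ⟨[13,9,14],38,1⟩) (.leaf ⟨[9],4,0⟩)) (.node (.leaf ⟨[2,9,11,14,5,14,3],84,6⟩) (.leaf ⟨[9],4,0⟩)))) (.node (.node (.node (.leaf ⟨[1,4,0],60,3⟩) (.leaf ⟨[12,13,4,13,1,14,0,4],85,1⟩)) (.node (.leaf ⟨[5,9,4,15],24,1⟩) (.leaf ⟨[9],4,0⟩))) (.node (.node (.leaf ⟨[0,5,5,1],59,3⟩) (.leaf ⟨[9],4,0⟩)) (.node (.leaf ⟨[8,9,14,0,11,0,0,0,8,9,8],42,3⟩) (.leaf ⟨[9],4,0⟩))))) (.node (.node (.node (.node (.leaf ⟨[12,9,11,15],43,0⟩) (.leaf ⟨[2,8,7,0,2,2,1,3,5,14,16,0,8,0,8,0],83,13⟩)) (.node (.leaf ⟨[3,9,2,13,4,13,12],41,7⟩)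 (.leaf ⟨[9],4,0⟩))) (.node (.node (.leaf ⟨[16,9,15],45,0⟩) (.leaf ⟨[9],4,0⟩)) (.node (.leaf ⟨[11,9,16,12],82,2⟩) (.leaf ⟨[9],4,0⟩)))) (.node (.node (.node (.leaf ⟨[15,9,16],62,1⟩) (.leaf ⟨[9],4,0⟩)) (.node (.leaf ⟨[14,9,13],44,0⟩) (.leaf ⟨[9],4,0⟩))) (.node (.node (.leaf ⟨[4,9,16,5],81,1⟩) (.leaf ⟨[9],4,0⟩)) (.node (.leaf ⟨[1,3,3,8,11,8,0,13,4],39,6⟩) (.leaf ⟨[9],4,0⟩))))))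
noncomputable def l0r11 : Bt Ru := (.node (.node (.node (.node (.node (.leaf ⟨[5,8,15,8,13,5],16,5⟩) (.leaf ⟨[11,14,5,5,3,11,2],87,3⟩)) (.node (.leaf ⟨[16,12,15],26,3⟩) (.leaf ⟨[12],25,0⟩))) (.node (.node (.leaf ⟨[3,5,2],49,0⟩) (.leaf ⟨[11,1,11,0,14,5],34,5⟩)) (.node (.leaf ⟨[8,0,13,4,10,1,3,3,8],39,1⟩) (.leaf ⟨[12],25,0⟩)))) (.node (.node (.node (.leaf ⟨[0,14,5,11,11,1],34,1⟩) (.leaf ⟨[3,3,8,13,8,14],17,4⟩)) (.node (.leaf ⟨[13,15,12,14],28,2⟩) (.leaf ⟨[12],25,0⟩))) (.node (.node (.leaf ⟨[15,15,5,12,4],58,3⟩) (.leaf ⟨[14,5,14,3,10,2,9],84,1⟩)) (.node (.leaf ⟨[9,5,1,13,0,14,5,14],92,6⟩) (.leaf ⟨[12],25,0⟩))))) (.node (.node (.node (.node (.leaf ⟨[12],25,0⟩) (.leaf ⟨[5,8,2,8,13,13],14,5⟩)) (.node (.leaf ⟨[9,16,12,10],82,3⟩)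 (.leaf ⟨[12],25,0⟩))) (.node (.node (.leaf ⟨[4,16,16,12,5],55,4⟩) (.leaf ⟨[0,0,0,8,9,8,10,8,9,14,0],42,8⟩)) (.node (.leaf ⟨[2,11,11,14,5,5,3],87,1⟩) (.leaf ⟨[12],25,0⟩)))) (.node (.node (.node (.leaf ⟨[15,10,12,9],43,3⟩) (.leaf ⟨[2,5,8,5,8,2],89,1⟩)) (.node (.leaf ⟨[16,14,12,13],75,4⟩) (.leaf ⟨[12],25,0⟩))) (.node (.node (.leaf ⟨[15,12,16],51,2⟩) (.leaf ⟨[14,5,5,3,11,2,11],87,4⟩)) (.node (.leaf ⟨[1,11,0,14,5,11],34,6⟩) (.leaf ⟨[12],25,0⟩))))))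
noncomputable def l0r12 : Bt Ru := (.node (.node (.node (.node (.node (.leaf ⟨[11],5,0⟩) (.leaf ⟨[5,11,4,16,16],55,2⟩)) (.node (.leaf ⟨[13,11,16,14],75,2⟩) (.leaf ⟨[11],5,0⟩))) (.node (.node (.leaf ⟨[3,4,2],52,3⟩) (.leaf ⟨[14,14,8,3,8,4],69,1⟩)) (.node (.leaf ⟨[10,3,9,2,13,4,13],41,6⟩) (.leaf ⟨[11],5,0⟩)))) (.node (.node (.node (.leaf ⟨[14,11,13,15],28,0⟩) (.leaf ⟨[4,13,1,12,0,12],72,1⟩)) (.node (.leaf ⟨[10,11,9,16],82,1⟩) (.leaf ⟨[11],5,0⟩))) (.node (.node (.leaf ⟨[16,11,15],51,0⟩) (.leaf ⟨[3,12,2,4,4,13,12],88,4⟩)) (.node (.leaf ⟨[3,8,4,8,4,3],15,5⟩) (.leaf ⟨[11],5,0⟩))))) (.node (.node (.node (.node (.leaf ⟨[15,11,16],26,1⟩) (.leaf ⟨[4,14,8,16,8,4],68,1⟩)) (.node (.leaf ⟨[13,8,14,8,2,2],37,2⟩) (.leaf ⟨[11],5,0⟩))) (.node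 (.node (.leaf ⟨[4,11,15,15,5],58,1⟩) (.leaf ⟨[1,13,10,8,9,8,10,8,1,1,1],86,3⟩)) (.node (.leaf ⟨[8,2,2,0,9,5,14,1,8],80,8⟩) (.leaf ⟨[11],5,0⟩)))) (.node (.node (.node (.leaf ⟨[9,11,15,10],43,1⟩) (.leaf ⟨[12,3,12,2,4,4,13],88,3⟩)) (.node (.leaf ⟨[2,4,4,13,12,12,3],88,6⟩) (.leaf ⟨[11],5,0⟩))) (.node (.node (.leaf ⟨[0,12,12,4,13,1],72,5⟩) (.leaf ⟨[11],5,0⟩)) (.node (.leaf ⟨[12,4,13,1,12,0],72,0⟩) (.leaf ⟨[11],5,0⟩))))))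
noncomputable def l0r13 : Bt Ru := (.node (.node (.node (.node (.node (.leaf ⟨[8,14,11,3,3,8],17,1⟩) (.leaf ⟨[1,12,0,12,12,4],72,3⟩)) (.node (.leaf ⟨[16,5,1,2,1,3,3,1,8,0,0,8],54,4⟩) (.leaf ⟨[12,10,3,9,2,13,4],41,5⟩))) (.node (.node (.leaf ⟨[4,15,15,14,5],50,4⟩) (.leaf ⟨[4,13,12,10,3,9,2],41,3⟩)) (.node (.leaf ⟨[11,16,14,12],75,3⟩) (.leaf ⟨[14],35,0⟩)))) (.node (.node (.node (.leaf ⟨[4,10,1,3,3,8,11,8,0],39,4⟩) (.leaf ⟨[0,14,5,14,11,9,5,1],92,1⟩)) (.node (.leaf ⟨[8,14,8,2,2,12],37,3⟩) (.leaf ⟨[14],35,0⟩))) (.node (.node (.leaf ⟨[15,14,16],66,2⟩) (.leaf ⟨[16,5,1,1,8,0,2,2,0,3,0,8],95,8⟩)) (.node (.leaf ⟨[16,16,5,14,4],73,3⟩) (.leaf ⟨[14],35,0⟩))))) (.node (.node (.node (.node (.leaf ⟨[14],35,0⟩) (.leaf ⟨[12,12,3,12,2,4,4],88,2⟩))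 (.node (.leaf ⟨[9,14,10],38,2⟩) (.leaf ⟨[14],35,0⟩))) (.node (.node (.leaf ⟨[2,5,3],48,0⟩) (.leaf ⟨[4,2,0,3,3,1,6,8,3,9,1,8,1,8,1,15],63,10⟩)) (.node (.leaf ⟨[15,12,14,11],28,3⟩) (.leaf ⟨[14],35,0⟩)))) (.node (.node (.node (.leaf ⟨[10,14,9],44,3⟩) (.leaf ⟨[11,5,8,2,8,13],14,4⟩)) (.node (.leaf ⟨[13,11,5,8,2,8],14,3⟩) (.leaf ⟨[14],35,0⟩))) (.node (.node (.leaf ⟨[16,14,15],67,3⟩) (.leaf ⟨[4,13,1,14,0,4,10,12],85,3⟩)) (.node (.leaf ⟨[5,11,5,8,15,8],16,3⟩) (.leaf ⟨[14],35,0⟩))))))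
noncomputable def l0r14 : Bt Ru := (.node (.node (.node (.node (.node (.leaf ⟨[13],6,0⟩) (.leaf ⟨[11,3,3,8,13,8],17,3⟩)) (.node (.leaf ⟨[10,13,9],38,0⟩) (.leaf ⟨[13],6,0⟩))) (.node (.node (.leaf ⟨[15,13,16],67,1⟩) (.leaf ⟨[3,10,2,9,11,14,5],84,4⟩)) (.node (.leaf ⟨[8,16,8,4,12,4],68,3⟩) (.leaf ⟨[13],6,0⟩)))) (.node (.node (.node (.leaf ⟨[9,13,10],44,1⟩) (.leaf ⟨[5,5,3,11,2,11,11],87,5⟩)) (.node (.leaf ⟨[12,13,11,16],75,1⟩) (.leaf ⟨[13],6,0⟩))) (.node (.node (.leaf ⟨[16,13,15],66,0⟩) (.leaf ⟨[0,11,0,0,0,8,9,8,10,8,9],42,6⟩)) (.node (.leaf ⟨[14,8,3,8,4,12],69,2⟩) (.leaf ⟨[13],6,0⟩))))) (.node (.node (.node (.node (.leaf ⟨[11,13,15,12],28,1⟩) (.leaf ⟨[1,8,12,8,2,2,0,9,5],80,5⟩)) (.node (.leaf ⟨[4,13,16,16,5],73,1⟩) (.leaf ⟨[13],6,0⟩)))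 (.node (.node (.leaf ⟨[5,13,4,15,15],50,2⟩) (.leaf ⟨[16,0,8,0,8,0,10,2,8,7,0,2,2,1,3,5],83,6⟩)) (.node (.leaf ⟨[5,11,11,1,11,0],34,3⟩) (.leaf ⟨[13],6,0⟩)))) (.node (.node (.node (.leaf ⟨[2,4,3],53,3⟩) (.leaf ⟨[8,1,1,8,0,2,2,0,3,0,4,15],31,8⟩)) (.node (.leaf ⟨[8,2,2,12,13,8],37,5⟩) (.leaf ⟨[13],6,0⟩))) (.node (.node (.leaf ⟨[8,3,8,4,12,14],69,3⟩) (.leaf ⟨[8,1,2,1,3,3,1,8,0,0,4,15],90,4⟩)) (.node (.leaf ⟨[0,4,10,12,13,4,13,1],85,7⟩) (.leaf ⟨[13],6,0⟩))))))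
noncomputable def l0r15 : Bt Ru := (.node (.node (.node (.node (.node (.leaf ⟨[8,13,5,11,5,8],16,1⟩) (.leaf ⟨[2,16,3],19,1⟩)) (.node (.leaf ⟨[3,16,2],64,0⟩) (.leaf ⟨[14,8,1,1,8,0,2,2,0,3,0,4],31,7⟩))) (.node (.node (.leaf ⟨[6,15,6,15,6,15,6,15,6],40,9⟩) (.leaf ⟨[6,16,6,15,1,1,6],20,1⟩)) (.node (.leaf ⟨[13,16,14],67,2⟩) (.leaf ⟨[16],22,0⟩)))) (.node (.node (.node (.leaf ⟨[15,15,15,15],29,0⟩) (.leaf ⟨[1,16,0,15],18,1⟩)) (.node (.leaf ⟨[9,16,10],62,2⟩) (.leaf ⟨[16],22,0⟩))) (.node (.node (.leaf ⟨[12,16,11],51,3⟩) (.leaf ⟨[14,5,13,4,15],50,1⟩)) (.node (.leaf ⟨[12,14,11,13],28,4⟩) (.leaf ⟨[16],22,0⟩))))) (.node (.node (.node (.node (.leaf ⟨[16],22,0⟩) (.leaf ⟨[15,5,12,4,11],58,4⟩)) (.node (.leaf ⟨[5,16,4],27,3⟩) (.leaf ⟨[16],22,0⟩)))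 (.node (.node (.leaf ⟨[10,16,9],45,3⟩) (.leaf ⟨[15,1,16,0],18,0⟩)) (.node (.leaf ⟨[14,16,13],66,3⟩) (.leaf ⟨[16],22,0⟩)))) (.node (.node (.node (.leaf ⟨[10,5,9,4],24,0⟩) (.leaf ⟨[10,12,9,11],43,4⟩)) (.node (.leaf ⟨[11,16,12],26,2⟩) (.leaf ⟨[16],22,0⟩))) (.node (.node (.leaf ⟨[0,16,16,1],30,1⟩) (.leaf ⟨[7,16,7,0,0,16,7],77,4⟩)) (.node (.leaf ⟨[4,16,5],65,2⟩) (.leaf ⟨[16],22,0⟩))))))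
noncomputable def l0r16 : Bt Ru := (.node (.node (.node (.node (.node (.leaf ⟨[15],7,0⟩) (.leaf ⟨[16,1,15,0],30,3⟩)) (.node (.leaf ⟨[16,16,16,16],74,0⟩) (.leaf ⟨[15],7,0⟩))) (.node (.node (.leaf ⟨[3,15,2],19,3⟩) (.leaf ⟨[7,15,7,16,7,0,0],77,2⟩)) (.node (.leaf ⟨[12,15,11],26,0⟩) (.leaf ⟨[15],7,0⟩)))) (.node (.node (.node (.leaf ⟨[4,15,5],27,1⟩) (.leaf ⟨[5,1,1,8,0,2,2,0,3,0,8,13],95,9⟩)) (.node (.leaf ⟨[14,15,13],67,0⟩) (.leaf ⟨[15],7,0⟩))) (.node (.node (.leaf ⟨[2,15,3],64,2⟩) (.leaf ⟨[7,0,0,16,7,15,7],77,6⟩)) (.node (.leaf ⟨[12,10,11,9],82,0⟩) (.leaf ⟨[15],7,0⟩))))) (.node (.node (.node (.node (.leaf ⟨[1,15,0,16],30,4⟩) (.leaf ⟨[6,15,1,1,6,15,6],20,3⟩)) (.node (.leaf ⟨[13,15,14],66,1⟩) (.leaf ⟨[15],7,0⟩))) (.node (.node (.leaf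 ⟨[10,15,9],62,0⟩) (.leaf ⟨[7,16,7,16,7,16,7,16,7],78,0⟩)) (.node (.leaf ⟨[11,15,12],51,1⟩) (.leaf ⟨[15],7,0⟩)))) (.node (.node (.node (.leaf ⟨[9,15,10],45,1⟩) (.leaf ⟨[14,12,13,11],75,0⟩)) (.node (.leaf ⟨[0,15,15,1],18,3⟩) (.leaf ⟨[15],7,0⟩))) (.node (.node (.leaf ⟨[5,15,4],65,0⟩) (.leaf ⟨[5,14,4,13,16],73,5⟩)) (.node (.leaf ⟨[8,4,12,4,14,8],68,5⟩) (.leaf ⟨[15],7,0⟩))))))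
noncomputable def l0r17 : Bt Ru := (.node (.node (.node (.node (.node (.node (.leaf ⟨[6,15,1,1,6,15,6,16],20,4⟩) (.leaf ⟨[16,12,15,11],26,0⟩)) (.node (.leaf ⟨[0,13,4,10,1,3,3,8,11,8],39,3⟩) (.leaf ⟨[0,1],13,0⟩))) (.node (.node (.leaf ⟨[11,3,5,2],49,0⟩) (.leaf ⟨[0,1],13,0⟩)) (.node (.leaf ⟨[6,2,7,3],57,2⟩) (.leaf ⟨[0,1],13,0⟩)))) (.node (.node (.node (.leaf ⟨[0,6,1,1,1,7],8,1⟩) (.leaf ⟨[0,1],13,0⟩)) (.node (.leaf ⟨[7,1,6,0,0,0],61,3⟩) (.leaf ⟨[0,1],13,0⟩))) (.node (.node (.leaf ⟨[12,8,2,2,0,9,5,14,1,8],80,8⟩) (.leaf ⟨[0,1],13,0⟩)) (.node (.leaf ⟨[0,0,0,0,7,7],33,0⟩) (.leaf ⟨[0,1],13,0⟩))))) (.node (.node (.node (.node (.leaf ⟨[8,9,14,0,11,0,0,0,8,9,8,10],42,4⟩) (.leaf ⟨[4,15,5,16],27,2⟩)) (.node (.leaf ⟨[9,14,0,11,0,0,0,8,9,8,10,8],42,5⟩)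 (.leaf ⟨[0,1],13,0⟩))) (.node (.node (.leaf ⟨[1,15,0,16,16],30,0⟩) (.leaf ⟨[0,1],13,0⟩)) (.node (.leaf ⟨[12,16,11,15],51,0⟩) (.leaf ⟨[0,1],13,0⟩)))) (.node (.node (.node (.leaf ⟨[1,4,0,10],60,0⟩) (.leaf ⟨[0,1],13,0⟩)) (.node (.leaf ⟨[7,2,6,3],9,1⟩) (.leaf ⟨[0,1],13,0⟩))) (.node (.node (.leaf ⟨[0,2,2,1,3,5,14,16,0,8,0,8,0,10,2,8,7],83,0⟩) (.leaf ⟨[0,1],13,0⟩)) (.node (.leaf ⟨[10,12,9,11,15],43,0⟩) (.leaf ⟨[0,1],13,0⟩)))))) (.node (.node (.node (.node (.node (.leaf ⟨[10,1,4,0],60,3⟩) (.leaf ⟨[16,10,15,9],62,0⟩)) (.node (.leaf ⟨[0,0,8,13,16,5,1,2,1,3,3,1,8],54,1⟩) (.leaf ⟨[0,1],13,0⟩))) (.node (.node (.leaf ⟨[4,12,14,14,8,3,8],69,0⟩) (.leaf ⟨[0,1],13,0⟩)) (.node (.leaf ⟨[11,16,12,15],26,3⟩) (.leaf ⟨[0,1],13,0⟩)))) (.node (.node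 (.node (.leaf ⟨[2,7,3,6],57,3⟩) (.leaf ⟨[0,1],13,0⟩)) (.node (.leaf ⟨[7,0,6,1,1,1],8,0⟩) (.leaf ⟨[0,1],13,0⟩))) (.node (.node (.leaf ⟨[0,0,3,1,1,2],71,4⟩) (.leaf ⟨[0,1],13,0⟩)) (.node (.leaf ⟨[1,5,0,9],12,1⟩) (.leaf ⟨[0,1],13,0⟩))))) (.node (.node (.node (.node (.leaf ⟨[4,16,16,12,5,11],55,5⟩) (.leaf ⟨[1,1,6,15,6,16,6,15],20,6⟩)) (.node (.leaf ⟨[10,15,9,16],62,1⟩) (.leaf ⟨[0,1],13,0⟩))) (.node (.node (.leaf ⟨[5,15,4,16],65,1⟩) (.leaf ⟨[0,1],13,0⟩)) (.node (.leaf ⟨[1,3,3,1,8,0,0,4,15,14,8,1,2],90,8⟩) (.leaf ⟨[0,1],13,0⟩)))) (.node (.node (.node (.leaf ⟨[2,2,12,13,8,14,8],37,0⟩) (.leaf ⟨[0,1],13,0⟩)) (.node (.leaf ⟨[8,3,9,1,8,1,8,1,15,13,4,2,0,3,3,1,6],63,1⟩) (.leaf ⟨[0,1],13,0⟩))) (.node (.node (.leaf ⟨[11,15,12,16],51,2⟩)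 (.leaf ⟨[0,1],13,0⟩)) (.node (.leaf ⟨[5,7,2,1,3,5,7,1,5,0,5,1,4,0,2,2,8,7],70,2⟩) (.leaf ⟨[0,1],13,0⟩)))))))
noncomputable def l1r0 : Bt Ru := (.node (.node (.node (.node (.node (.leaf ⟨[1],13,0⟩) (.leaf ⟨[0,0,0,0,0,0,0],99,0⟩)) (.node (.leaf ⟨[16,16,1,15],30,2⟩) (.leaf ⟨[1],13,0⟩))) (.node (.node (.leaf ⟨[4,4,1,9],36,2⟩) (.leaf ⟨[1],13,0⟩)) (.node (.leaf ⟨[0,3,1,1,2],71,4⟩) (.leaf ⟨[1],13,0⟩)))) (.node (.node (.node (.leaf ⟨[9,1,5],12,3⟩) (.leaf ⟨[1],13,0⟩)) (.node (.leaf ⟨[5,5,1,10],59,4⟩) (.leaf ⟨[1],13,0⟩))) (.node (.node (.leaf ⟨[3,1,1,2,0],71,5⟩) (.leaf ⟨[1],13,0⟩)) (.node (.leaf ⟨[12,12,4,13,1,12],72,6⟩) (.leaf ⟨[1],13,0⟩))))) (.node (.node (.node (.node (.leaf ⟨[15,15,1,16],18,4⟩) (.leaf ⟨[1],13,0⟩)) (.node (.leaf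 ⟨[2,1,1,3,0],47,4⟩) (.leaf ⟨[1],13,0⟩))) (.node (.node (.leaf ⟨[14,5,11,11,1,11],34,2⟩) (.leaf ⟨[1],13,0⟩)) (.node (.leaf ⟨[4,10,12,13,4,13,1,14],85,8⟩) (.leaf ⟨[1],13,0⟩)))) (.node (.node (.node (.leaf ⟨[10,1,4],60,2⟩) (.leaf ⟨[1],13,0⟩)) (.node (.leaf ⟨[14,5,14,11,9,5,1,13],92,2⟩) (.leaf ⟨[1],13,0⟩))) (.node (.node (.leaf ⟨[0,2,1,1,3],47,3⟩) (.leaf ⟨[1],13,0⟩)) (.node (.leaf ⟨[3,1,2,0,3,1,2,0,3,1,2],98,11⟩) (.leaf ⟨[1],13,0⟩))))))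
noncomputable def l1r1 : Bt Ru := (.node (.node (.node (.node (.node (.leaf ⟨[0],0,0⟩) (.leaf ⟨[14,0,4,10,12,13,4,13],85,6⟩)) (.node (.leaf ⟨[1,3,0,0,2],47,0⟩) (.leaf ⟨[0],0,0⟩))) (.node (.node (.leaf ⟨[5,0,9],12,1⟩) (.leaf ⟨[0],0,0⟩)) (.node (.leaf ⟨[2,0,0,3,1],71,2⟩) (.leaf ⟨[0],0,0⟩)))) (.node (.node (.node (.leaf ⟨[3,0,0,2,1],47,1⟩) (.leaf ⟨[0],0,0⟩)) (.node (.leaf ⟨[1,2,0,0,3],71,1⟩) (.leaf ⟨[0],0,0⟩))) (.node (.node (.leaf ⟨[4,0,10],60,0⟩) (.leaf ⟨[0],0,0⟩)) (.node (.leaf ⟨[2,0,3,1,2,0,3,1,2,0,3],98,9⟩) (.leaf ⟨[0],0,0⟩))))) (.node (.node (.node (.node (.leaf ⟨[9,0,4,4],36,0⟩) (.leaf ⟨[1,1,1,1,1,1,1],100,0⟩)) (.node (.leaf ⟨[11,0,14,5,11,11],34,0⟩) (.leaf ⟨[0],0,0⟩))) (.node (.node (.leaf ⟨[10,0,5,5],59,2⟩) (.leaf ⟨[0],0,0⟩))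 (.node (.leaf ⟨[12,0,12,12,4,13],72,4⟩) (.leaf ⟨[0],0,0⟩)))) (.node (.node (.node (.leaf ⟨[16,0,15,15],18,2⟩) (.leaf ⟨[0],0,0⟩)) (.node (.leaf ⟨[13,0,14,5,14,11,9,5],92,0⟩) (.leaf ⟨[0],0,0⟩))) (.node (.node (.leaf ⟨[15,0,16,16],30,0⟩) (.leaf ⟨[0],0,0⟩)) (.node (.leaf ⟨[3,1,3,1,3,1,3],94,7⟩) (.leaf ⟨[0],0,0⟩))))))
noncomputable def l1r2 : Bt Ru := (.node (.node (.node (.node (.leaf ⟨[3],23,0⟩) (.leaf ⟨[5,3,13],48,1⟩)) (.node (.leaf ⟨[15,3,16],64,3⟩) (.leaf ⟨[1,1,3,0,0],47,5⟩))) (.node (.node (.leaf ⟨[16,3,15],19,2⟩) (.leaf ⟨[4,4,13,12,12,3,12],88,7⟩)) (.node (.leaf ⟨[2,2,2,2],91,0⟩) (.leaf ⟨[0,2,0,2,0,2,0],93,7⟩)))) (.node (.node (.node (.leaf ⟨[11,3,5],49,3⟩) (.leaf ⟨[4,3,14],53,0⟩)) (.node (.leaf ⟨[13,4,13,12,10,3,9],41,2⟩)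 (.leaf ⟨[0,0,3,1,1],71,3⟩))) (.node (.node (.leaf ⟨[12,3,4],52,2⟩) (.leaf ⟨[9,11,14,5,14,3,10],84,7⟩)) (.node (.leaf ⟨[11,11,14,5,5,3,11],87,2⟩) (.leaf ⟨[3],23,0⟩)))))
noncomputable def l1r3 : Bt Ru := (.node (.node (.node (.node (.leaf ⟨[2],1,0⟩) (.leaf ⟨[11,2,11,11,14,5,5],87,0⟩)) (.node (.leaf ⟨[14,2,4],53,2⟩) (.leaf ⟨[0,0,2,1,1],47,2⟩))) (.node (.node (.leaf ⟨[15,2,16],19,0⟩) (.leaf ⟨[1,1,2,0,0],71,0⟩)) (.node (.leaf ⟨[4,2,12],52,0⟩) (.leaf ⟨[12,2,4,4,13,12,12],88,5⟩)))) (.node (.node (.node (.leaf ⟨[13,2,5],48,3⟩) (.leaf ⟨[3,3,3,3],79,0⟩)) (.node (.leaf ⟨[5,2,11],49,1⟩) (.leaf ⟨[1,3,1,3,1,3,1],94,0⟩))) (.node (.node (.leaf ⟨[16,2,15],64,1⟩) (.leaf ⟨[10,2,9,11,14,5,14],84,5⟩)) (.node (.leaf ⟨[9,2,13,4,13,12,10],41,0⟩)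 (.leaf ⟨[1,2,0,3,1,2,0,3,1,2,0],98,0⟩)))))
noncomputable def l1r4 : Bt Ru := (.node (.node (.node (.node (.node (.leaf ⟨[5],46,0⟩) (.leaf ⟨[4,1,9,0],36,3⟩)) (.node (.leaf ⟨[3,14,2],53,1⟩) (.leaf ⟨[5],46,0⟩))) (.node (.node (.leaf ⟨[4,4,4,4],76,0⟩) (.leaf ⟨[5],46,0⟩)) (.node (.leaf ⟨[10,12,13,4,13,1,14,0],85,0⟩) (.leaf ⟨[5],46,0⟩)))) (.node (.node (.node (.leaf ⟨[16,5,15],65,3⟩) (.leaf ⟨[5],46,0⟩)) (.node (.leaf ⟨[13,1,12,0,12,12],72,2⟩) (.leaf ⟨[5],46,0⟩))) (.node (.node (.leaf ⟨[13,16,16,5,14],73,2⟩) (.leaf ⟨[5],46,0⟩)) (.node (.leaf ⟨[13,12,12,3,12,2,4],88,1⟩) (.leaf ⟨[5],46,0⟩))))) (.node (.node (.node (.node (.leaf ⟨[15,5,16],27,2⟩) (.leaf ⟨[16,16,12,5,11],55,5⟩)) (.node (.leaf ⟨[0,10,1],60,1⟩) (.leaf ⟨[5],46,0⟩))) (.node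 (.node (.leaf ⟨[11,15,15,5,12],58,2⟩) (.leaf ⟨[5],46,0⟩)) (.node (.leaf ⟨[1,9,0,4],36,4⟩) (.leaf ⟨[5],46,0⟩)))) (.node (.node (.node (.leaf ⟨[15,10,5,9],24,4⟩) (.leaf ⟨[5],46,0⟩)) (.node (.leaf ⟨[15,15,14,5,13],50,5⟩) (.leaf ⟨[5],46,0⟩))) (.node (.node (.leaf ⟨[2,12,3],52,1⟩) (.leaf ⟨[5],46,0⟩)) (.node (.leaf ⟨[9,16,5,10],81,2⟩) (.leaf ⟨[5],46,0⟩))))))
noncomputable def l1r5 : Bt Ru := (.node (.node (.node (.node (.node (.leaf ⟨[4],2,0⟩) (.leaf ⟨[1,10,0,5],59,1⟩)) (.node (.leaf ⟨[14,4,13,16,16],73,0⟩) (.leaf ⟨[4],2,0⟩))) (.node (.node (.leaf ⟨[3,13,2],48,2⟩) (.leaf ⟨[4],2,0⟩)) (.node (.leaf ⟨[13,4,15,15,14],50,3⟩) (.leaf ⟨[4],2,0⟩)))) (.node (.node (.node (.leaf ⟨[15,4,16],65,1⟩) (.leaf ⟨[11,11,1,11,0,14],34,4⟩)) (.node (.leaf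 ⟨[3,11,2,11,11,14,5],87,7⟩) (.leaf ⟨[4],2,0⟩))) (.node (.node (.leaf ⟨[9,4,15,10],24,2⟩) (.leaf ⟨[4],2,0⟩)) (.node (.leaf ⟨[5,1,10,0],59,0⟩) (.leaf ⟨[4],2,0⟩))))) (.node (.node (.node (.node (.leaf ⟨[0,9,1],12,2⟩) (.leaf ⟨[5,3,11,2,11,11,14],87,6⟩)) (.node (.leaf ⟨[10,4,9,16],81,0⟩) (.leaf ⟨[4],2,0⟩))) (.node (.node (.leaf ⟨[2,11,3],49,2⟩) (.leaf ⟨[4],2,0⟩)) (.node (.leaf ⟨[5,5,5,5],56,0⟩) (.leaf ⟨[4],2,0⟩)))) (.node (.node (.node (.leaf ⟨[16,4,15],27,0⟩) (.leaf ⟨[4],2,0⟩)) (.node (.leaf ⟨[1,13,0,14,5,14,11,9],92,8⟩) (.leaf ⟨[4],2,0⟩))) (.node (.node (.leaf ⟨[12,4,11,15,15],58,0⟩) (.leaf ⟨[4],2,0⟩)) (.node (.leaf ⟨[11,4,16,16,12],55,3⟩) (.leaf ⟨[4],2,0⟩))))))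
noncomputable def l1r6 : Bt Ru := (.leaf ⟨[7],32,0⟩)
noncomputable def l1r7 : Bt Ru := (.leaf ⟨[6],3,0⟩)
noncomputable def l1r8 : Bt Ru := (.leaf ⟨[8],11,0⟩)
noncomputable def l1r9 : Bt Ru := (.node (.node (.node (.node (.leaf ⟨[1,5,0],12,0⟩) (.leaf ⟨[16,5,10,4],81,3⟩)) (.node (.leaf ⟨[13,10,14],44,2⟩) (.leaf ⟨[5,1,13,0,14,5,14,11],92,7⟩))) (.node (.node (.leaf ⟨[15,10,16],45,2⟩) (.leaf ⟨[16,12,10,11],82,4⟩)) (.node (.leaf ⟨[11,15,10,12],43,2⟩) (.leaf ⟨[10],21,0⟩)))) (.node (.node (.node (.leaf ⟨[10],21,0⟩) (.leaf ⟨[0,4,4,1],36,1⟩)) (.node (.leaf ⟨[4,15,10,5],24,3⟩) (.leaf ⟨[11,14,5,14,3,10,2],84,0⟩))) (.node (.node (.leaf ⟨[14,10,13],38,3⟩) (.leaf ⟨[2,13,4,13,12,10,3],41,1⟩)) (.node (.leaf ⟨[16,10,15],62,3⟩) (.leaf ⟨[10],21,0⟩)))))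
noncomputable def l1r10 : Bt Ru := (.node (.node (.node (.node (.leaf ⟨[9],4,0⟩) (.leaf ⟨[15,9,16],62,1⟩)) (.node (.leaf ⟨[5,9,4,15],24,1⟩) (.leaf ⟨[9],4,0⟩))) (.node (.node (.leaf ⟨[16,9,15],45,0⟩) (.leaf ⟨[11,9,16,12],82,2⟩)) (.node (.leaf ⟨[12,9,11,15],43,0⟩) (.leaf ⟨[9],4,0⟩)))) (.node (.node (.node (.leaf ⟨[1,4,0],60,3⟩) (.leaf ⟨[13,9,14],38,1⟩)) (.node (.leaf ⟨[4,9,16,5],81,1⟩) (.leaf ⟨[9],4,0⟩))) (.node (.node (.leaf ⟨[14,9,13],44,0⟩) (.leaf ⟨[2,9,11,14,5,14,3],84,6⟩)) (.node (.leaf ⟨[0,5,5,1],59,3⟩) (.leaf ⟨[9],4,0⟩)))))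
noncomputable def l1r11 : Bt Ru := (.node (.node (.node (.node (.node (.leaf ⟨[12],25,0⟩) (.leaf ⟨[16,14,12,13],75,4⟩)) (.node (.leaf ⟨[11,1,11,0,14,5],34,5⟩) (.leaf ⟨[12],25,0⟩))) (.node (.node (.leaf ⟨[15,10,12,9],43,3⟩) (.leaf ⟨[12],25,0⟩)) (.node (.leaf ⟨[14,5,5,3,11,2,11],87,4⟩) (.leaf ⟨[12],25,0⟩)))) (.node (.node (.node (.leaf ⟨[16,12,15],26,3⟩) (.leaf ⟨[12],25,0⟩)) (.node (.leaf ⟨[4,16,16,12,5],55,4⟩) (.leaf ⟨[12],25,0⟩))) (.node (.node (.leaf ⟨[15,15,5,12,4],58,3⟩) (.leaf ⟨[12],25,0⟩)) (.node (.leaf ⟨[11,14,5,5,3,11,2],87,3⟩) (.leaf ⟨[12],25,0⟩))))) (.node (.node (.node (.node (.leaf ⟨[3,5,2],49,0⟩) (.leaf ⟨[14,5,14,3,10,2,9],84,1⟩)) (.node (.leaf ⟨[9,16,12,10],82,3⟩) (.leaf ⟨[12],25,0⟩))) (.node (.node (.leaf ⟨[13,15,12,14],28,2⟩)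 (.leaf ⟨[12],25,0⟩)) (.node (.leaf ⟨[0,14,5,11,11,1],34,1⟩) (.leaf ⟨[12],25,0⟩)))) (.node (.node (.node (.leaf ⟨[15,12,16],51,2⟩) (.leaf ⟨[12],25,0⟩)) (.node (.leaf ⟨[9,5,1,13,0,14,5,14],92,6⟩) (.leaf ⟨[12],25,0⟩))) (.node (.node (.leaf ⟨[1,11,0,14,5,11],34,6⟩) (.leaf ⟨[12],25,0⟩)) (.node (.leaf ⟨[2,11,11,14,5,5,3],87,1⟩) (.leaf ⟨[12],25,0⟩))))))
noncomputable def l1r12 : Bt Ru := (.node (.node (.node (.node (.leaf ⟨[11],5,0⟩) (.leaf ⟨[10,3,9,2,13,4,13],41,6⟩)) (.node (.leaf ⟨[14,11,13,15],28,0⟩) (.leaf ⟨[10,11,9,16],82,1⟩))) (.node (.node (.leaf ⟨[15,11,16],26,1⟩) (.leaf ⟨[12,4,13,1,12,0],72,0⟩)) (.node (.leaf ⟨[3,4,2],52,3⟩) (.leaf ⟨[4,13,1,12,0,12],72,1⟩)))) (.node (.node (.node (.leaf ⟨[16,11,15],51,0⟩) (.leaf ⟨[13,11,16,14],75,2⟩))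 (.node (.leaf ⟨[4,11,15,15,5],58,1⟩) (.leaf ⟨[0,12,12,4,13,1],72,5⟩))) (.node (.node (.leaf ⟨[9,11,15,10],43,1⟩) (.leaf ⟨[2,4,4,13,12,12,3],88,6⟩)) (.node (.leaf ⟨[5,11,4,16,16],55,2⟩) (.leaf ⟨[11],5,0⟩)))))
noncomputable def l1r13 : Bt Ru := (.node (.node (.node (.node (.leaf ⟨[14],35,0⟩) (.leaf ⟨[0,14,5,14,11,9,5,1],92,1⟩)) (.node (.leaf ⟨[15,12,14,11],28,3⟩) (.leaf ⟨[9,14,10],38,2⟩))) (.node (.node (.leaf ⟨[15,14,16],66,2⟩) (.leaf ⟨[1,12,0,12,12,4],72,3⟩)) (.node (.leaf ⟨[16,16,5,14,4],73,3⟩) (.leaf ⟨[14],35,0⟩)))) (.node (.node (.node (.leaf ⟨[2,5,3],48,0⟩) (.leaf ⟨[11,16,14,12],75,3⟩)) (.node (.leaf ⟨[16,14,15],67,3⟩) (.leaf ⟨[12,12,3,12,2,4,4],88,2⟩))) (.node (.node (.leaf ⟨[10,14,9],44,3⟩) (.leaf ⟨[4,15,15,14,5],50,4⟩))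 (.node (.leaf ⟨[12,10,3,9,2,13,4],41,5⟩) (.leaf ⟨[14],35,0⟩)))))
noncomputable def l1r14 : Bt Ru := (.node (.node (.node (.node (.node (.leaf ⟨[13],6,0⟩) (.leaf ⟨[11,9,5,1,13,0,14,5],92,5⟩)) (.node (.leaf ⟨[5,5,3,11,2,11,11],87,5⟩) (.leaf ⟨[13],6,0⟩))) (.node (.node (.leaf ⟨[11,13,15,12],28,1⟩) (.leaf ⟨[13],6,0⟩)) (.node (.leaf ⟨[3,10,2,9,11,14,5],84,4⟩) (.leaf ⟨[13],6,0⟩)))) (.node (.node (.node (.leaf ⟨[16,13,15],66,0⟩) (.leaf ⟨[13],6,0⟩)) (.node (.leaf ⟨[0,4,10,12,13,4,13,1],85,7⟩) (.leaf ⟨[13],6,0⟩))) (.node (.node (.leaf ⟨[4,13,16,16,5],73,1⟩) (.leaf ⟨[13],6,0⟩)) (.node (.leaf ⟨[5,11,11,1,11,0],34,3⟩) (.leaf ⟨[13],6,0⟩))))) (.node (.node (.node (.node (.leaf ⟨[15,13,16],67,1⟩) (.leaf ⟨[13],6,0⟩)) (.node (.leaf ⟨[10,13,9],38,0⟩)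 (.leaf ⟨[13],6,0⟩))) (.node (.node (.leaf ⟨[2,4,3],53,3⟩) (.leaf ⟨[13],6,0⟩)) (.node (.leaf ⟨[5,14,3,10,2,9,11],84,2⟩) (.leaf ⟨[13],6,0⟩)))) (.node (.node (.node (.leaf ⟨[9,13,10],44,1⟩) (.leaf ⟨[13],6,0⟩)) (.node (.leaf ⟨[5,13,4,15,15],50,2⟩) (.leaf ⟨[13],6,0⟩))) (.node (.node (.leaf ⟨[12,13,11,16],75,1⟩) (.leaf ⟨[13],6,0⟩)) (.node (.leaf ⟨[5,14,11,9,5,1,13,0],92,3⟩) (.leaf ⟨[13],6,0⟩))))))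
noncomputable def l1r15 : Bt Ru := (.node (.node (.node (.node (.node (.leaf ⟨[16],22,0⟩) (.leaf ⟨[15,5,12,4,11],58,4⟩)) (.node (.leaf ⟨[4,16,5],65,2⟩) (.leaf ⟨[16],22,0⟩))) (.node (.node (.leaf ⟨[12,16,11],51,3⟩) (.leaf ⟨[16],22,0⟩)) (.node (.leaf ⟨[3,16,2],64,0⟩) (.leaf ⟨[16],22,0⟩)))) (.node (.node (.node (.leaf ⟨[9,16,10],62,2⟩) (.leaf ⟨[10,5,9,4],24,0⟩)) (.node (.leaf ⟨[13,16,14],67,2⟩) (.leaf ⟨[16],22,0⟩))) (.node (.node (.leaf ⟨[15,15,15,15],29,0⟩) (.leaf ⟨[16],22,0⟩)) (.node (.leaf ⟨[1,16,0,15],18,1⟩) (.leaf ⟨[16],22,0⟩))))) (.node (.node (.node (.node (.leaf ⟨[5,16,4],27,3⟩) (.leaf ⟨[15,1,16,0],18,0⟩)) (.node (.leaf ⟨[5,12,4,11,15],58,5⟩) (.leaf ⟨[16],22,0⟩))) (.node (.node (.leaf ⟨[14,16,13],66,3⟩) (.leaf ⟨[16],22,0⟩))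 (.node (.leaf ⟨[12,14,11,13],28,4⟩) (.leaf ⟨[16],22,0⟩)))) (.node (.node (.node (.leaf ⟨[10,16,9],45,3⟩) (.leaf ⟨[16],22,0⟩)) (.node (.leaf ⟨[0,16,16,1],30,1⟩) (.leaf ⟨[16],22,0⟩))) (.node (.node (.leaf ⟨[11,16,12],26,2⟩) (.leaf ⟨[16],22,0⟩)) (.node (.leaf ⟨[2,16,3],19,1⟩) (.leaf ⟨[16],22,0⟩))))))
noncomputable def l1r16 : Bt Ru := (.node (.node (.node (.node (.node (.leaf ⟨[15],7,0⟩) (.leaf ⟨[12,10,11,9],82,0⟩)) (.node (.leaf ⟨[12,15,11],26,0⟩) (.leaf ⟨[15],7,0⟩))) (.node (.node (.leaf ⟨[13,15,14],66,1⟩) (.leaf ⟨[15],7,0⟩)) (.node (.leaf ⟨[0,15,15,1],18,3⟩) (.leaf ⟨[15],7,0⟩)))) (.node (.node (.node (.leaf ⟨[9,15,10],45,1⟩) (.leaf ⟨[5,10,4,9],81,4⟩)) (.node (.leaf ⟨[10,15,9],62,0⟩) (.leaf ⟨[15],7,0⟩))) (.node (.node (.leaf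 ⟨[14,15,13],67,0⟩) (.leaf ⟨[15],7,0⟩)) (.node (.leaf ⟨[16,16,16,16],74,0⟩) (.leaf ⟨[15],7,0⟩))))) (.node (.node (.node (.node (.leaf ⟨[4,15,5],27,1⟩) (.leaf ⟨[14,12,13,11],75,0⟩)) (.node (.leaf ⟨[1,15,0,16],30,4⟩) (.leaf ⟨[15],7,0⟩))) (.node (.node (.leaf ⟨[5,15,4],65,0⟩) (.leaf ⟨[15],7,0⟩)) (.node (.leaf ⟨[12,5,11,4,16],55,1⟩) (.leaf ⟨[15],7,0⟩)))) (.node (.node (.node (.leaf ⟨[11,15,12],51,1⟩) (.leaf ⟨[16,1,15,0],30,3⟩)) (.node (.leaf ⟨[3,15,2],19,3⟩) (.leaf ⟨[15],7,0⟩))) (.node (.node (.leaf ⟨[5,14,4,13,16],73,5⟩) (.leaf ⟨[15],7,0⟩)) (.node (.leaf ⟨[2,15,3],64,2⟩) (.leaf ⟨[15],7,0⟩))))))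
noncomputable def l1r17 : Bt Ru := (.node (.node (.node (.node (.node (.leaf ⟨[14,9,13,10],44,1⟩) (.leaf ⟨[9,0,4,4,1],36,1⟩)) (.node (.leaf ⟨[5,0,9,1],12,2⟩) (.leaf ⟨[0,1],13,0⟩))) (.node (.node (.leaf ⟨[15,14,5,13,4,15],50,1⟩) (.leaf ⟨[12,0,12,12,4,13,1],72,5⟩)) (.node (.leaf ⟨[1,12,0,12,12,4,13],72,4⟩) (.leaf ⟨[0,1],13,0⟩)))) (.node (.node (.node (.leaf ⟨[10,12,9,11,15],43,0⟩) (.leaf ⟨[3,4,2,12],52,0⟩)) (.node (.leaf ⟨[16,14,12,13,11],75,0⟩) (.leaf ⟨[0,1],13,0⟩))) (.node (.node (.leaf ⟨[12,15,11,16],26,1⟩) (.leaf ⟨[0,1],13,0⟩)) (.node (.leaf ⟨[0,9,1,5],12,3⟩) (.leaf ⟨[0,1],13,0⟩))))) (.node (.node (.node (.node (.leaf ⟨[1,1,3,0,0,2],47,0⟩) (.leaf ⟨[9,16,12,10,11],82,4⟩)) (.node (.leaf ⟨[1,10,0,5,5],59,2⟩) (.leaf ⟨[0,1],13,0⟩)))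 (.node (.node (.leaf ⟨[15,4,16,5],65,2⟩) (.leaf ⟨[13,10,14,9],44,3⟩)) (.node (.leaf ⟨[1,1,2,0,0,3],71,1⟩) (.leaf ⟨[0,1],13,0⟩)))) (.node (.node (.node (.leaf ⟨[11,16,12,15],26,3⟩) (.leaf ⟨[4,3,14,2],53,1⟩)) (.node (.leaf ⟨[10,14,9,13],44,0⟩) (.leaf ⟨[0,1],13,0⟩))) (.node (.node (.leaf ⟨[12,13,11,16,14],75,2⟩) (.leaf ⟨[0,1],13,0⟩)) (.node (.leaf ⟨[2,9,11,14,5,14,3,10],84,7⟩) (.leaf ⟨[0,1],13,0⟩))))))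
noncomputable def l2r0 : Bt Ru := (.node (.node (.node (.node (.leaf ⟨[1],13,0⟩) (.leaf ⟨[3,1,2,0,3,1,2,0,3,1,2],98,11⟩)) (.node (.leaf ⟨[2,0,2,0,2,0,2],93,0⟩) (.leaf ⟨[1],13,0⟩))) (.node (.node (.leaf ⟨[0,2,1,1,3],47,3⟩) (.leaf ⟨[1],13,0⟩)) (.node (.leaf ⟨[3,1,1,2,0],71,5⟩) (.leaf ⟨[1],13,0⟩)))) (.node (.node (.node (.leaf ⟨[2,1,1,3,0],47,4⟩) (.leaf ⟨[1],13,0⟩)) (.node (.leaf ⟨[2,1,3,0,2,1,3,0,2,1,3],97,10⟩) (.leaf ⟨[1],13,0⟩))) (.node (.node (.leaf ⟨[0,0,0,0,0,0,0],99,0⟩) (.leaf ⟨[1],13,0⟩)) (.node (.leaf ⟨[0,3,1,1,2],71,4⟩) (.leaf ⟨[1],13,0⟩)))))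
noncomputable def l2r1 : Bt Ru := (.node (.node (.node (.leaf ⟨[0],0,0⟩) (.leaf ⟨[1,2,0,0,3],71,1⟩)) (.node (.leaf ⟨[3,0,0,2,1],47,1⟩) (.leaf ⟨[2,0,3,1,2,0,3,1,2,0,3],98,9⟩))) (.node (.node (.leaf ⟨[1,3,0,0,2],47,0⟩) (.leaf ⟨[3,1,3,1,3,1,3],94,7⟩)) (.node (.leaf ⟨[2,0,0,3,1],71,2⟩) (.leaf ⟨[3,0,2,1,3,0,2,1,3,0,2],97,0⟩))))
noncomputable def l2r2 : Bt Ru := (.node (.node (.node (.leaf ⟨[2,2,2,2],91,0⟩) (.leaf ⟨[0,0,3,1,1],71,3⟩)) (.node (.leaf ⟨[0,2,0,2,0,2,0],93,7⟩) (.leaf ⟨[0,3,1,2,0,3,1,2,0,3,1],98,10⟩))) (.node (.node (.leaf ⟨[3],23,0⟩) (.leaf ⟨[1,1,3,0,0],47,5⟩)) (.node (.leaf ⟨[1,3,0,2,1,3,0,2,1,3,0],97,11⟩) (.leaf ⟨[3],23,0⟩))))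
noncomputable def l2r3 : Bt Ru := (.node (.node (.node (.leaf ⟨[2],1,0⟩) (.leaf ⟨[1,1,2,0,0],71,0⟩)) (.node (.leaf ⟨[0,2,1,3,0,2,1,3,0,2,1],97,9⟩) (.leaf ⟨[1,3,1,3,1,3,1],94,0⟩))) (.node (.node (.leaf ⟨[0,0,2,1,1],47,2⟩) (.leaf ⟨[1,2,0,3,1,2,0,3,1,2,0],98,0⟩)) (.node (.leaf ⟨[3,3,3,3],79,0⟩) (.leaf ⟨[2],1,0⟩))))
noncomputable def l2r4 : Bt Ru := (.leaf ⟨[5],46,0⟩)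
noncomputable def l2r5 : Bt Ru := (.leaf ⟨[4],2,0⟩)
noncomputable def l2r6 : Bt Ru := (.leaf ⟨[7],32,0⟩)
noncomputable def l2r7 : Bt Ru := (.leaf ⟨[6],3,0⟩)
noncomputable def l2r8 : Bt Ru := (.leaf ⟨[8],11,0⟩)
noncomputable def l2r9 : Bt Ru := (.leaf ⟨[10],21,0⟩)
noncomputable def l2r10 : Bt Ru := (.leaf ⟨[9],4,0⟩)
noncomputable def l2r11 : Bt Ru := (.leaf ⟨[12],25,0⟩)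
noncomputable def l2r12 : Bt Ru := (.leaf ⟨[11],5,0⟩)
noncomputable def l2r13 : Bt Ru := (.leaf ⟨[14],35,0⟩)
noncomputable def l2r14 : Bt Ru := (.leaf ⟨[13],6,0⟩)
noncomputable def l2r15 : Bt Ru := (.leaf ⟨[16],22,0⟩)
noncomputable def l2r16 : Bt Ru := (.leaf ⟨[15],7,0⟩)
noncomputable def l2r17 : Bt Ru := (.leaf ⟨[0,2,1,1,3,0],47,4⟩)
noncomputable def l0T : List (Bt Nat) := [l0t0, l0t1, l0t2, l0t3, l0t4, l0t5, l0t6, l0t7, l0t8, l0t9, l0t10, l0t11, l0t12, l0t13, l0t14, l0t15, l0t16, l0t17, l0t18]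
noncomputable def l0R : List (Bt Ru) := [l0r0, l0r1, l0r2, l0r3, l0r4, l0r5, l0r6, l0r7, l0r8, l0r9, l0r10, l0r11, l0r12, l0r13, l0r14, l0r15, l0r16, l0r17]
noncomputable def l0c (a lo cnt : Nat) : Nat := chk (gT l0T (nat_lit 14)) (rT l0R) (nat_lit 14) (nat_lit 0x7ffc0) (nat_lit 0x7c000) (nat_lit 0x3fc0) (nat_lit 17) (nat_lit 19) (nat_lit 8191) (nat_lit 0x80000000ffffffff) (nat_lit 45) (nat_lit 88) (nat_lit 0x1fe3f) (nat_lit 0x41e40) a (nfOf [0,1,2,3,4,5,6,7,8,9,10,11,12,13,14,15,16] 3906 a) lo cnt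
noncomputable def l0f (a : Nat) : Nat := l0c a 0 31
noncomputable def l0m (lo cnt : Nat) : Nat := chkM (gT l0T (nat_lit 14)) (nat_lit 14) (nat_lit 0x7ffc0) (nat_lit 0x7c000) (nat_lit 0x3fc0) (nat_lit 17) lo cnt
noncomputable def l1T : List (Bt Nat) := [l1t0, l1t1, l1t2, l1t3, l1t4, l1t5, (.leaf (nat_lit 0)), (.leaf (nat_lit 0)), (.leaf (nat_lit 0)), l1t9, l1t10, l1t11, l1t12, l1t13, l1t14, l1t15, l1t16, l1t17, l1t18]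
noncomputable def l1R : List (Bt Ru) := [l1r0, l1r1, l1r2, l1r3, l1r4, l1r5, l1r6, l1r7, l1r8, l1r9, l1r10, l1r11, l1r12, l1r13, l1r14, l1r15, l1r16, l1r17]
noncomputable def l1c (a lo cnt : Nat) : Nat := chk (gT l1T (nat_lit 14)) (rT l1R) (nat_lit 14) (nat_lit 0x3ffc0) (nat_lit 0x3c000) (nat_lit 0x3fc0) (nat_lit 17) (nat_lit 18) (nat_lit 4095) (nat_lit 0x800000003fffffff) (nat_lit 24) (nat_lit 46) (nat_lit 15) (nat_lit 0x35440) a (nfOf [0,1,2,3,4,5,9,10,11,12,13,14,15,16] 3125 a) lo cnt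
noncomputable def l1f (a : Nat) : Nat := l1c a 0 15
noncomputable def l1m (lo cnt : Nat) : Nat := chkM (gT l1T (nat_lit 14)) (nat_lit 14) (nat_lit 0x3ffc0) (nat_lit 0x3c000) (nat_lit 0x3fc0) (nat_lit 17) lo cnt
noncomputable def l2T : List (Bt Nat) := [l2t0, l2t1, l2t2, l2t3, (.leaf (nat_lit 0)), (.leaf (nat_lit 0)), (.leaf (nat_lit 0)), (.leaf (nat_lit 0)), (.leaf (nat_lit 0)), (.leaf (nat_lit 0)), (.leaf (nat_lit 0)), (.leaf (nat_lit 0)), (.leaf (nat_lit 0)), (.leaf (nat_lit 0)), (.leaf (nat_lit 0)), (.leaf (nat_lit 0)), (.leaf (nat_lit 0)), l2t17, l2t18]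
noncomputable def l2R : List (Bt Ru) := [l2r0, l2r1, l2r2, l2r3, l2r4, l2r5, l2r6, l2r7, l2r8, l2r9, l2r10, l2r11, l2r12, l2r13, l2r14, l2r15, l2r16, l2r17]
noncomputable def l2c (a lo cnt : Nat) : Nat := chk (gT l2T (nat_lit 14)) (rT l2R) (nat_lit 14) (nat_lit 0xffc0) (nat_lit 0xc000) (nat_lit 0x3fc0) (nat_lit 17) (nat_lit 16) (nat_lit 1023) (nat_lit 0x8000000003ffffff) (nat_lit 11) (nat_lit 20) (nat_lit 0) (nat_lit 0xb8c0) a (nfOf [0,1,2,3] 480 a) lo cnt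
noncomputable def l2f (a : Nat) : Nat := l2c a 0 3
noncomputable def l2m (lo cnt : Nat) : Nat := chkM (gT l2T (nat_lit 14)) (nat_lit 14) (nat_lit 0xffc0) (nat_lit 0xc000) (nat_lit 0x3fc0) (nat_lit 17) lo cnt

end Cfsg.Agent.TCX.G25
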